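import Cfsg.Agent.Lib.Chev.E62Five.Seven

/-!
Maps keeping the form and the pairing, commuting with the element of order five and fixing five or all of
the seven coordinates: none exchanges the last two, and only the powers of the element fix all.
-/

set_option autoImplicit false
set_option maxRecDepth 100000
set_option linter.unusedSectionVars false
set_option linter.unusedSimpArgs false

namespace CfsgLib.Chev.E62Five

open Matrix CfsgLib.Chev CfsgLib.Chev.E6Form
open CfsgLib.Chev.E62Fi22 (matOf matOf_map_app vecOf)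
open CfsgLib.KnownB.Fi22Mult.Rep (Vc app eqL eqL_sound)

variable {K : Type*} [Field K] [CharP K 2] {w : K}

theorem mat_col (A : List Vc) {k : ℕ} (hk : k < 27) :
    matOf w A *ᵥ ev K k = vecOf w (A.getD k (0, 0)) := by
  funext i
  rw [ev, bs, Matrix.mulVec_single_one]
  show matOf w A i (cd k) = _
  rw [matOf, vecOf, E62Fi22.pos_cd hk]

/-- no coordinates in the second eight-element half -/
theorem Cen.up (hw : w * w = w + 1) {g : GL ι K} (hg : Cen w g) {k : ℕ}
    (hk : k ∈ [0, 1, 3, 4, 6, 7, 11, 14]) : ∀ j ∈ upB, cn (ap g (ev K k)) j = 0 := by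
  have hk27 : k < 27 := by
    simp only [List.mem_cons, List.not_mem_nil, or_false] at hk
    omega
  have hA := colsA_ends.2.2.1
  have hlq : colsQ.length = 27 := by decide +kernel
  have hQ : matOf w colsQ = (elA w : Matrix ι ι K) * elA w + w • (elA w : Matrix ι ι K) + 1 := by
    rw [colsQ, E62Fi22.matOf_zipWith (by decide +kernel) (E62Fi22.len_scRows id),
      E62Fi22.matOf_zipWith (by decide +kernel) (by decide +kernel), E62Fi22.matOf_id,
      E62Fi22.matOf_wm hw hA, matOf_map_app hw hA hA, elA_val hw]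
  have hz : matOf w colsQ *ᵥ ev K k = 0 := by
    rw [mat_col colsQ hk27]
    have := List.all_eq_true.1 colsQ_zero k hk
    rw [decide_eq_true_eq, List.getD_eq_getElem?_getD, List.getElem?_eq_getElem (by omega)] at this
    rw [List.getD_eq_getElem?_getD, List.getElem?_eq_getElem (by omega)]
    simp only [Option.getD_some] at this ⊢
    rw [this]
    funext i
    exact E62Fi22.dec_zero w _
  have hc : matOf w colsQ *ᵥ ap g (ev K k) = 0 := by
    have e : matOf w colsQ * (g : Matrix ι ι K) = (g : Matrix ι ι K) * matOf w colsQ := by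
      have hga : (g : Matrix ι ι K) * elA w = (elA w : Matrix ι ι K) * g := by
        rw [← Units.val_mul, hg.comm.eq, Units.val_mul]
      rw [hQ]
      simp only [add_mul, mul_add, one_mul, mul_one, Matrix.smul_mul, Matrix.mul_smul]
      rw [← hga, mul_assoc, ← hga, ← mul_assoc (elA w : Matrix ι ι K), ← hga, mul_assoc]
    show matOf w colsQ *ᵥ ((g : Matrix ι ι K) *ᵥ _) = 0
    rw [Matrix.mulVec_mulVec, e, ← Matrix.mulVec_mulVec, hz, Matrix.mulVec_zero]
  intro j hj
  have hj27 : j < 27 := by revert j; decide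
  have hP : matOf w invQ * matOf w colsQ = matOf w (projC upB) := by
    rw [← matOf_map_app hw hlq colsA_ends.2.2.2.2, eqL_sound invQ_left]
  have := congrArg (fun M => cn (M *ᵥ ap g (ev K k)) j) hP
  simp only [← Matrix.mulVec_mulVec, hc, Matrix.mulVec_zero] at this
  simp only [cn, mat_proj hw, E62Fi22.pos_cd hj27, if_pos hj, Pi.zero_apply] at this
  exact this.symm

theorem off_ev {k : ℕ} (hk : k ∈ offW) : Off (ev K k) := by
  have h27 := offW_lt k hk
  have hne : ∀ j : ℕ, j ∉ offW → k ≠ j := fun j hj e => hj (e ▸ hk)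
  refine ⟨?_, ?_, ?_, ?_, ?_, ?_, ?_⟩ <;> rw [cn_ev h27 (by norm_num), if_neg (hne _ (by decide))]

variable [Fintype K]

/-- fixes five of the seven coordinates -/
structure Five5 (w : K) (g : GL ι K) : Prop where
  cen : Cen w g
  f17 : ap g (ev K 17) = ev K 17
  f2 : ap g (ev K 2) = ev K 2
  f24 : ap g (ev K 24) = ev K 24
  f5 : ap g (ev K 5) = ev K 5
  f25 : ap g (ev K 25) = ev K 25

variable {g : GL ι K}

/-- coordinates of the image of a vector killed by the form at a fixed vector -/
theorem killed (hK : Fintype.card K = 4) (hg : Keep g) {u x : ι → K} (hu : ap g u = u)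
    (hx : ∀ y, QB u x y = 0) (y : ι → K) : QB u (ap g x) y = 0 := by
  rw [qb_move hK hg hu, hx]

theorem Five5.kill17 (hK : Fintype.card K = 4) (hg : Five5 w g) {x : ι → K} (hx : ∀ y, QB (ev K 17) x y = 0) :
    cn (ap g x) 9 = 0 ∧ cn (ap g x) 10 = 0 ∧ cn (ap g x) 12 = 0 ∧ cn (ap g x) 13 = 0 := by
  have h := killed hK hg.cen.keep hg.f17 hx
  have h9 := h (ev K 13); have h10 := h (ev K 12); have h12 := h (ev K 10); have h13 := h (ev K 9)
  rw [qb17] at h9 h10 h12 h13
  simp (disch := decide) only [cn_ev, Nat.reduceEqDiff, if_true, if_false, mul_zero, add_zero, zero_add,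
    mul_one] at h9 h10 h12 h13
  exact ⟨h9, h10, h12, h13⟩


/-- the image of the basis vector 0 -/
theorem Five5.block0 (hK : Fintype.card K = 4) (hw : w * w = w + 1) (hg : Five5 w g) :
    ∀ j < 27, j ≠ 0 → j ≠ 1 → cn (ap g (ev K 0)) j = 0 := by
  obtain ⟨a2, a5, a8, a17, a24, a25, a26⟩ := hg.cen.off hw (off_ev (k := 0) (by decide))
  obtain ⟨a9, a10, a12, a13⟩ := hg.kill17 hK (x := ev K 0) fun y => by
    rw [qb17]
    simp (disch := decide) [cn_ev]
  have hup := hg.cen.up hw (k := 0) (by decide)
  have h2 := killed hK hg.cen.keep hg.f2 (x := ev K 0) fun y => by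
    rw [qb2]
    simp (disch := decide) [cn_ev]
  have h25 := killed hK hg.cen.keep hg.f25 (x := ev K 0) fun y => by
    rw [qb25]
    simp (disch := decide) [cn_ev]
  have a3 := h2 (ev K 7)
  rw [qb2] at a3
  simp (disch := decide) only [cn_ev, Nat.reduceEqDiff, if_true, if_false, mul_zero, add_zero, zero_add,
    mul_one] at a3
  have a4 := h2 (ev K 6)
  rw [qb2] at a4
  simp (disch := decide) only [cn_ev, Nat.reduceEqDiff, if_true, if_false, mul_zero, add_zero, zero_add,
    mul_one] at a4
  have a6 := h2 (ev K 4)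
  rw [qb2] at a6
  simp (disch := decide) only [cn_ev, Nat.reduceEqDiff, if_true, if_false, mul_zero, add_zero, zero_add,
    mul_one] at a6
  have a7 := h2 (ev K 3)
  rw [qb2] at a7
  simp (disch := decide) only [cn_ev, Nat.reduceEqDiff, if_true, if_false, mul_zero, add_zero, zero_add,
    mul_one] at a7
  have a11 := h25 (ev K 3)
  rw [qb25] at a11
  simp (disch := decide) only [cn_ev, Nat.reduceEqDiff, if_true, if_false, mul_zero, add_zero, zero_add,
    mul_one] at a11
  have a14 := h25 (ev K 4)
  rw [qb25] at a14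
  simp (disch := decide) only [cn_ev, Nat.reduceEqDiff, if_true, if_false, mul_zero, add_zero, zero_add,
    mul_one] at a14
  intro j hj n1 n2
  interval_cases j
  all_goals first | assumption | exact absurd rfl n1 | exact absurd rfl n2 | exact hup _ (by decide)

/-- the image of the basis vector 1 -/
theorem Five5.block1 (hK : Fintype.card K = 4) (hw : w * w = w + 1) (hg : Five5 w g) :
    ∀ j < 27, j ≠ 0 → j ≠ 1 → cn (ap g (ev K 1)) j = 0 := by
  obtain ⟨a2, a5, a8, a17, a24, a25, a26⟩ := hg.cen.off hw (off_ev (k := 1) (by decide))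
  obtain ⟨a9, a10, a12, a13⟩ := hg.kill17 hK (x := ev K 1) fun y => by
    rw [qb17]
    simp (disch := decide) [cn_ev]
  have hup := hg.cen.up hw (k := 1) (by decide)
  have h2 := killed hK hg.cen.keep hg.f2 (x := ev K 1) fun y => by
    rw [qb2]
    simp (disch := decide) [cn_ev]
  have h25 := killed hK hg.cen.keep hg.f25 (x := ev K 1) fun y => by
    rw [qb25]
    simp (disch := decide) [cn_ev]
  have a3 := h2 (ev K 7)
  rw [qb2] at a3
  simp (disch := decide) only [cn_ev, Nat.reduceEqDiff, if_true, if_false, mul_zero, add_zero, zero_add,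
    mul_one] at a3
  have a4 := h2 (ev K 6)
  rw [qb2] at a4
  simp (disch := decide) only [cn_ev, Nat.reduceEqDiff, if_true, if_false, mul_zero, add_zero, zero_add,
    mul_one] at a4
  have a6 := h2 (ev K 4)
  rw [qb2] at a6
  simp (disch := decide) only [cn_ev, Nat.reduceEqDiff, if_true, if_false, mul_zero, add_zero, zero_add,
    mul_one] at a6
  have a7 := h2 (ev K 3)
  rw [qb2] at a7
  simp (disch := decide) only [cn_ev, Nat.reduceEqDiff, if_true, if_false, mul_zero, add_zero, zero_add,
    mul_one] at a7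
  have a11 := h25 (ev K 3)
  rw [qb25] at a11
  simp (disch := decide) only [cn_ev, Nat.reduceEqDiff, if_true, if_false, mul_zero, add_zero, zero_add,
    mul_one] at a11
  have a14 := h25 (ev K 4)
  rw [qb25] at a14
  simp (disch := decide) only [cn_ev, Nat.reduceEqDiff, if_true, if_false, mul_zero, add_zero, zero_add,
    mul_one] at a14
  intro j hj n1 n2
  interval_cases j
  all_goals first | assumption | exact absurd rfl n1 | exact absurd rfl n2 | exact hup _ (by decide)

/-- the image of the basis vector 3 -/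
theorem Five5.block3 (hK : Fintype.card K = 4) (hw : w * w = w + 1) (hg : Five5 w g) :
    ∀ j < 27, j ≠ 3 → j ≠ 4 → cn (ap g (ev K 3)) j = 0 := by
  obtain ⟨a2, a5, a8, a17, a24, a25, a26⟩ := hg.cen.off hw (off_ev (k := 3) (by decide))
  obtain ⟨a9, a10, a12, a13⟩ := hg.kill17 hK (x := ev K 3) fun y => by
    rw [qb17]
    simp (disch := decide) [cn_ev]
  have hup := hg.cen.up hw (k := 3) (by decide)
  have h5 := killed hK hg.cen.keep hg.f5 (x := ev K 3) fun y => by
    rw [qb5]
    simp (disch := decide) [cn_ev]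
  have h24 := killed hK hg.cen.keep hg.f24 (x := ev K 3) fun y => by
    rw [qb24]
    simp (disch := decide) [cn_ev]
  have a0 := h5 (ev K 7)
  rw [qb5] at a0
  simp (disch := decide) only [cn_ev, Nat.reduceEqDiff, if_true, if_false, mul_zero, add_zero, zero_add,
    mul_one] at a0
  have a1 := h5 (ev K 6)
  rw [qb5] at a1
  simp (disch := decide) only [cn_ev, Nat.reduceEqDiff, if_true, if_false, mul_zero, add_zero, zero_add,
    mul_one] at a1
  have a6 := h5 (ev K 1)
  rw [qb5] at a6
  simp (disch := decide) only [cn_ev, Nat.reduceEqDiff, if_true, if_false, mul_zero, add_zero, zero_add,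
    mul_one] at a6
  have a7 := h5 (ev K 0)
  rw [qb5] at a7
  simp (disch := decide) only [cn_ev, Nat.reduceEqDiff, if_true, if_false, mul_zero, add_zero, zero_add,
    mul_one] at a7
  have a11 := h24 (ev K 0)
  rw [qb24] at a11
  simp (disch := decide) only [cn_ev, Nat.reduceEqDiff, if_true, if_false, mul_zero, add_zero, zero_add,
    mul_one] at a11
  have a14 := h24 (ev K 1)
  rw [qb24] at a14
  simp (disch := decide) only [cn_ev, Nat.reduceEqDiff, if_true, if_false, mul_zero, add_zero, zero_add,
    mul_one] at a14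
  intro j hj n1 n2
  interval_cases j
  all_goals first | assumption | exact absurd rfl n1 | exact absurd rfl n2 | exact hup _ (by decide)

/-- the image of the basis vector 4 -/
theorem Five5.block4 (hK : Fintype.card K = 4) (hw : w * w = w + 1) (hg : Five5 w g) :
    ∀ j < 27, j ≠ 3 → j ≠ 4 → cn (ap g (ev K 4)) j = 0 := by
  obtain ⟨a2, a5, a8, a17, a24, a25, a26⟩ := hg.cen.off hw (off_ev (k := 4) (by decide))
  obtain ⟨a9, a10, a12, a13⟩ := hg.kill17 hK (x := ev K 4) fun y => by
    rw [qb17]
    simp (disch := decide) [cn_ev]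
  have hup := hg.cen.up hw (k := 4) (by decide)
  have h5 := killed hK hg.cen.keep hg.f5 (x := ev K 4) fun y => by
    rw [qb5]
    simp (disch := decide) [cn_ev]
  have h24 := killed hK hg.cen.keep hg.f24 (x := ev K 4) fun y => by
    rw [qb24]
    simp (disch := decide) [cn_ev]
  have a0 := h5 (ev K 7)
  rw [qb5] at a0
  simp (disch := decide) only [cn_ev, Nat.reduceEqDiff, if_true, if_false, mul_zero, add_zero, zero_add,
    mul_one] at a0
  have a1 := h5 (ev K 6)
  rw [qb5] at a1
  simp (disch := decide) only [cn_ev, Nat.reduceEqDiff, if_true, if_false, mul_zero, add_zero, zero_add,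
    mul_one] at a1
  have a6 := h5 (ev K 1)
  rw [qb5] at a6
  simp (disch := decide) only [cn_ev, Nat.reduceEqDiff, if_true, if_false, mul_zero, add_zero, zero_add,
    mul_one] at a6
  have a7 := h5 (ev K 0)
  rw [qb5] at a7
  simp (disch := decide) only [cn_ev, Nat.reduceEqDiff, if_true, if_false, mul_zero, add_zero, zero_add,
    mul_one] at a7
  have a11 := h24 (ev K 0)
  rw [qb24] at a11
  simp (disch := decide) only [cn_ev, Nat.reduceEqDiff, if_true, if_false, mul_zero, add_zero, zero_add,
    mul_one] at a11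
  have a14 := h24 (ev K 1)
  rw [qb24] at a14
  simp (disch := decide) only [cn_ev, Nat.reduceEqDiff, if_true, if_false, mul_zero, add_zero, zero_add,
    mul_one] at a14
  intro j hj n1 n2
  interval_cases j
  all_goals first | assumption | exact absurd rfl n1 | exact absurd rfl n2 | exact hup _ (by decide)

/-- the image of the basis vector 6 -/
theorem Five5.block6 (hK : Fintype.card K = 4) (hw : w * w = w + 1) (hg : Five5 w g) :
    ∀ j < 27, j ≠ 6 → j ≠ 7 → cn (ap g (ev K 6)) j = 0 := by
  obtain ⟨a2, a5, a8, a17, a24, a25, a26⟩ := hg.cen.off hw (off_ev (k := 6) (by decide))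
  obtain ⟨a9, a10, a12, a13⟩ := hg.kill17 hK (x := ev K 6) fun y => by
    rw [qb17]
    simp (disch := decide) [cn_ev]
  have hup := hg.cen.up hw (k := 6) (by decide)
  have h24 := killed hK hg.cen.keep hg.f24 (x := ev K 6) fun y => by
    rw [qb24]
    simp (disch := decide) [cn_ev]
  have h25 := killed hK hg.cen.keep hg.f25 (x := ev K 6) fun y => by
    rw [qb25]
    simp (disch := decide) [cn_ev]
  have a0 := h24 (ev K 11)
  rw [qb24] at a0
  simp (disch := decide) only [cn_ev, Nat.reduceEqDiff, if_true, if_false, mul_zero, add_zero, zero_add,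
    mul_one] at a0
  have a1 := h24 (ev K 14)
  rw [qb24] at a1
  simp (disch := decide) only [cn_ev, Nat.reduceEqDiff, if_true, if_false, mul_zero, add_zero, zero_add,
    mul_one] at a1
  have a3 := h25 (ev K 11)
  rw [qb25] at a3
  simp (disch := decide) only [cn_ev, Nat.reduceEqDiff, if_true, if_false, mul_zero, add_zero, zero_add,
    mul_one] at a3
  have a4 := h25 (ev K 14)
  rw [qb25] at a4
  simp (disch := decide) only [cn_ev, Nat.reduceEqDiff, if_true, if_false, mul_zero, add_zero, zero_add,
    mul_one] at a4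
  have a11 := h24 (ev K 0)
  rw [qb24] at a11
  simp (disch := decide) only [cn_ev, Nat.reduceEqDiff, if_true, if_false, mul_zero, add_zero, zero_add,
    mul_one] at a11
  have a14 := h24 (ev K 1)
  rw [qb24] at a14
  simp (disch := decide) only [cn_ev, Nat.reduceEqDiff, if_true, if_false, mul_zero, add_zero, zero_add,
    mul_one] at a14
  intro j hj n1 n2
  interval_cases j
  all_goals first | assumption | exact absurd rfl n1 | exact absurd rfl n2 | exact hup _ (by decide)

/-- the image of the basis vector 7 -/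
theorem Five5.block7 (hK : Fintype.card K = 4) (hw : w * w = w + 1) (hg : Five5 w g) :
    ∀ j < 27, j ≠ 6 → j ≠ 7 → cn (ap g (ev K 7)) j = 0 := by
  obtain ⟨a2, a5, a8, a17, a24, a25, a26⟩ := hg.cen.off hw (off_ev (k := 7) (by decide))
  obtain ⟨a9, a10, a12, a13⟩ := hg.kill17 hK (x := ev K 7) fun y => by
    rw [qb17]
    simp (disch := decide) [cn_ev]
  have hup := hg.cen.up hw (k := 7) (by decide)
  have h24 := killed hK hg.cen.keep hg.f24 (x := ev K 7) fun y => by
    rw [qb24]
    simp (disch := decide) [cn_ev]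
  have h25 := killed hK hg.cen.keep hg.f25 (x := ev K 7) fun y => by
    rw [qb25]
    simp (disch := decide) [cn_ev]
  have a0 := h24 (ev K 11)
  rw [qb24] at a0
  simp (disch := decide) only [cn_ev, Nat.reduceEqDiff, if_true, if_false, mul_zero, add_zero, zero_add,
    mul_one] at a0
  have a1 := h24 (ev K 14)
  rw [qb24] at a1
  simp (disch := decide) only [cn_ev, Nat.reduceEqDiff, if_true, if_false, mul_zero, add_zero, zero_add,
    mul_one] at a1
  have a3 := h25 (ev K 11)
  rw [qb25] at a3
  simp (disch := decide) only [cn_ev, Nat.reduceEqDiff, if_true, if_false, mul_zero, add_zero, zero_add,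
    mul_one] at a3
  have a4 := h25 (ev K 14)
  rw [qb25] at a4
  simp (disch := decide) only [cn_ev, Nat.reduceEqDiff, if_true, if_false, mul_zero, add_zero, zero_add,
    mul_one] at a4
  have a11 := h24 (ev K 0)
  rw [qb24] at a11
  simp (disch := decide) only [cn_ev, Nat.reduceEqDiff, if_true, if_false, mul_zero, add_zero, zero_add,
    mul_one] at a11
  have a14 := h24 (ev K 1)
  rw [qb24] at a14
  simp (disch := decide) only [cn_ev, Nat.reduceEqDiff, if_true, if_false, mul_zero, add_zero, zero_add,
    mul_one] at a14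
  intro j hj n1 n2
  interval_cases j
  all_goals first | assumption | exact absurd rfl n1 | exact absurd rfl n2 | exact hup _ (by decide)

/-- the image of the basis vector 11 -/
theorem Five5.block11 (hK : Fintype.card K = 4) (hw : w * w = w + 1) (hg : Five5 w g) :
    ∀ j < 27, j ≠ 11 → j ≠ 14 → cn (ap g (ev K 11)) j = 0 := by
  obtain ⟨a2, a5, a8, a17, a24, a25, a26⟩ := hg.cen.off hw (off_ev (k := 11) (by decide))
  obtain ⟨a9, a10, a12, a13⟩ := hg.kill17 hK (x := ev K 11) fun y => by
    rw [qb17]
    simp (disch := decide) [cn_ev]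
  have hup := hg.cen.up hw (k := 11) (by decide)
  have h2 := killed hK hg.cen.keep hg.f2 (x := ev K 11) fun y => by
    rw [qb2]
    simp (disch := decide) [cn_ev]
  have h5 := killed hK hg.cen.keep hg.f5 (x := ev K 11) fun y => by
    rw [qb5]
    simp (disch := decide) [cn_ev]
  have a0 := h5 (ev K 7)
  rw [qb5] at a0
  simp (disch := decide) only [cn_ev, Nat.reduceEqDiff, if_true, if_false, mul_zero, add_zero, zero_add,
    mul_one] at a0
  have a1 := h5 (ev K 6)
  rw [qb5] at a1
  simp (disch := decide) only [cn_ev, Nat.reduceEqDiff, if_true, if_false, mul_zero, add_zero, zero_add,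
    mul_one] at a1
  have a3 := h2 (ev K 7)
  rw [qb2] at a3
  simp (disch := decide) only [cn_ev, Nat.reduceEqDiff, if_true, if_false, mul_zero, add_zero, zero_add,
    mul_one] at a3
  have a4 := h2 (ev K 6)
  rw [qb2] at a4
  simp (disch := decide) only [cn_ev, Nat.reduceEqDiff, if_true, if_false, mul_zero, add_zero, zero_add,
    mul_one] at a4
  have a6 := h2 (ev K 4)
  rw [qb2] at a6
  simp (disch := decide) only [cn_ev, Nat.reduceEqDiff, if_true, if_false, mul_zero, add_zero, zero_add,
    mul_one] at a6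
  have a7 := h2 (ev K 3)
  rw [qb2] at a7
  simp (disch := decide) only [cn_ev, Nat.reduceEqDiff, if_true, if_false, mul_zero, add_zero, zero_add,
    mul_one] at a7
  intro j hj n1 n2
  interval_cases j
  all_goals first | assumption | exact absurd rfl n1 | exact absurd rfl n2 | exact hup _ (by decide)

/-- the image of the basis vector 14 -/
theorem Five5.block14 (hK : Fintype.card K = 4) (hw : w * w = w + 1) (hg : Five5 w g) :
    ∀ j < 27, j ≠ 11 → j ≠ 14 → cn (ap g (ev K 14)) j = 0 := by
  obtain ⟨a2, a5, a8, a17, a24, a25, a26⟩ := hg.cen.off hw (off_ev (k := 14) (by decide))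
  obtain ⟨a9, a10, a12, a13⟩ := hg.kill17 hK (x := ev K 14) fun y => by
    rw [qb17]
    simp (disch := decide) [cn_ev]
  have hup := hg.cen.up hw (k := 14) (by decide)
  have h2 := killed hK hg.cen.keep hg.f2 (x := ev K 14) fun y => by
    rw [qb2]
    simp (disch := decide) [cn_ev]
  have h5 := killed hK hg.cen.keep hg.f5 (x := ev K 14) fun y => by
    rw [qb5]
    simp (disch := decide) [cn_ev]
  have a0 := h5 (ev K 7)
  rw [qb5] at a0
  simp (disch := decide) only [cn_ev, Nat.reduceEqDiff, if_true, if_false, mul_zero, add_zero, zero_add,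
    mul_one] at a0
  have a1 := h5 (ev K 6)
  rw [qb5] at a1
  simp (disch := decide) only [cn_ev, Nat.reduceEqDiff, if_true, if_false, mul_zero, add_zero, zero_add,
    mul_one] at a1
  have a3 := h2 (ev K 7)
  rw [qb2] at a3
  simp (disch := decide) only [cn_ev, Nat.reduceEqDiff, if_true, if_false, mul_zero, add_zero, zero_add,
    mul_one] at a3
  have a4 := h2 (ev K 6)
  rw [qb2] at a4
  simp (disch := decide) only [cn_ev, Nat.reduceEqDiff, if_true, if_false, mul_zero, add_zero, zero_add,
    mul_one] at a4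
  have a6 := h2 (ev K 4)
  rw [qb2] at a6
  simp (disch := decide) only [cn_ev, Nat.reduceEqDiff, if_true, if_false, mul_zero, add_zero, zero_add,
    mul_one] at a6
  have a7 := h2 (ev K 3)
  rw [qb2] at a7
  simp (disch := decide) only [cn_ev, Nat.reduceEqDiff, if_true, if_false, mul_zero, add_zero, zero_add,
    mul_one] at a7
  intro j hj n1 n2
  interval_cases j
  all_goals first | assumption | exact absurd rfl n1 | exact absurd rfl n2 | exact hup _ (by decide)

theorem expand_block {v : ι → K} {a b : ℕ} (h : ∀ j < 27, j ≠ a → j ≠ b → cn v j = 0) {j : ℕ} (hj : j < 27)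
    (na : j ≠ a) (nb : j ≠ b) : cn v j = 0 := h j hj na nb

/-- the last two coordinates are not exchanged -/
theorem Five5.no_swap (hK : Fintype.card K = 4) (hw : w * w = w + 1) (hg : Five5 w g) :
    ap g (ev K 8) ≠ ev K 26 := by
  intro h8
  have h0 := hg.block0 hK hw
  have h4 := hg.block4 hK hw
  have e := QB_inv (three_le hK) hg.cen.keep.1 (ev K 8) (ev K 0) (ev K 4)
  rw [h8, qb26, qb8] at e
  simp (disch := omega) only [h0, h4, mul_zero, zero_mul, add_zero] at e
  simp (disch := decide) [cn_ev] at e

theorem vec_ext {u v : ι → K} (h : ∀ j < 27, cn u j = cn v j) : u = v := by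
  funext i
  rw [← E62Fi22.cd_pos i]
  exact h _ (E62Fi22.pos_lt i)

theorem two_coords {v : ι → K} {a b : ℕ} (ha : a < 27) (hb : b < 27) (hab : a ≠ b)
    (h : ∀ j < 27, j ≠ a → j ≠ b → cn v j = 0) : v = cn v a • ev K a + cn v b • ev K b := by
  refine vec_ext fun j hj => ?_
  show cn v j = cn v a * cn (ev K a) j + cn v b * cn (ev K b) j
  rw [cn_ev ha hj, cn_ev hb hj]
  by_cases ja : a = j
  · subst ja; simp [Ne.symm hab]
  · by_cases jb : b = j
    · subst jb; simp [hab]
    · simp [ja, jb, h j hj (Ne.symm ja) (Ne.symm jb)]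

theorem cn_add (u v : ι → K) (j : ℕ) : cn (u + v) j = cn u j + cn v j := rfl

theorem cn_smul (c : K) (v : ι → K) (j : ℕ) : cn (c • v) j = c * cn v j := rfl

theorem inv_w (hw : w * w = w + 1) : w * (w + 1) = 1 := by
  linear_combination hw + w * CharTwo.two_eq_zero (R := K)

/-- the action of the element on three pairs of coordinates -/
theorem elA_pair (hw : w * w = w + 1) {a b : ℕ} (hab : (a, b) ∈ [(0, 1), (3, 4), (6, 7)]) :
    ap (elA w) (ev K a) = ev K a + w • ev K b ∧ ap (elA w) (ev K b) = ev K a + (w + 1) • ev K b := by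
  have hd : ∀ p ∈ [(0, 1), (3, 4), (6, 7)], p.1 < 27 ∧ p.2 < 27 ∧ (p.1 : ℕ) ≠ p.2 ∧
      colsA.getD p.1 (0, 0) = (1 <<< p.1, 1 <<< p.2) ∧
      colsA.getD p.2 (0, 0) = ((1 <<< p.1) ^^^ (1 <<< p.2), 1 <<< p.2) := by decide +kernel
  obtain ⟨ha, hb, hne, ea, eb⟩ := hd _ hab
  simp only at ha hb hne ea eb
  constructor
  all_goals
    show (elA w : Matrix ι ι K) *ᵥ _ = _
    rw [elA_val hw, mat_col colsA (by assumption)]
    refine vec_ext fun j hj => ?_
    show E62Fi22.dec w _ (E62Fi22.pos (cd j)) = cn (ev K a) j + _ * cn (ev K b) j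
    rw [E62Fi22.pos_cd hj, cn_ev ha hj, cn_ev hb hj]
    first | rw [ea] | rw [eb]
    simp only [E62Fi22.dec, Nat.testBit_xor, Nat.one_shiftLeft, Nat.testBit_two_pow, E62Fi22.bitv_xor]
    by_cases ja : a = j <;> by_cases jb : b = j <;> simp [E62Fi22.bitv, ja, jb] <;>
      first | omega | ring

/-- the second column of a block from the first -/
theorem Cen.second (hw : w * w = w + 1) (hg : Cen w g) {a b : ℕ} (hab : (a, b) ∈ [(0, 1), (3, 4), (6, 7)])
    (hblock : ∀ j < 27, j ≠ a → j ≠ b → cn (ap g (ev K a)) j = 0) :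
    cn (ap g (ev K b)) a = (w + 1) * cn (ap g (ev K a)) b ∧
      cn (ap g (ev K b)) b = cn (ap g (ev K a)) a + cn (ap g (ev K a)) b := by
  obtain ⟨eA, eB⟩ := elA_pair (K := K) hw hab
  have hd : ∀ p ∈ [(0, 1), (3, 4), (6, 7)], p.1 < 27 ∧ p.2 < 27 ∧ (p.1 : ℕ) ≠ p.2 := by decide
  obtain ⟨ha, hb, hne⟩ := hd _ hab
  simp only at ha hb hne
  have hv := two_coords ha hb hne hblock
  set p := cn (ap g (ev K a)) a
  set q := cn (ap g (ev K a)) b
  have h1 : ap (elA w) (ap g (ev K a)) = ap g (ev K a + w • ev K b) := by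
    rw [← ap_mul, ← hg.comm.eq, ap_mul, eA]
  rw [show ap g (ev K a + w • ev K b) = ap g (ev K a) + w • ap g (ev K b) by
    simp [ap, Matrix.mulVec_add, Matrix.mulVec_smul]] at h1
  have h2 : ap (elA w) (p • ev K a + q • ev K b) =
      p • ap (elA w) (ev K a) + q • ap (elA w) (ev K b) := by
    simp [ap, Matrix.mulVec_add, Matrix.mulVec_smul]
  rw [hv, h2, eA, eB] at h1
  have ca := congrArg (fun v => cn v a) h1
  have cb := congrArg (fun v => cn v b) h1
  simp only [cn_add, cn_smul, cn_ev ha ha, cn_ev hb ha, cn_ev ha hb, cn_ev hb hb, if_true, if_neg hne,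
    if_neg (Ne.symm hne), mul_zero, add_zero, zero_add, mul_one] at ca cb
  have hi := inv_w hw
  constructor
  · linear_combination -(w + 1) * ca - cn (ap g (ev K b)) a * hi
  · linear_combination -(w + 1) * cb + (p + q - cn (ap g (ev K b)) b) * hi

end CfsgLib.Chev.E62Five
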