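import Cfsg.Agent.Lib.Chev.E62Five.Kernel

/-!
At most `100800` maps keep the form and the pairing, commute with the element of order five and fix the
seventeenth basis vector: a stabiliser chain on the six remaining fixed coordinates.
-/

set_option autoImplicit false
set_option maxRecDepth 100000
set_option linter.unusedSectionVars false
set_option linter.unusedSimpArgs false

namespace CfsgLib.Chev.E62Five

open Matrix CfsgLib.Chev CfsgLib.Chev.E6Form

/-- the six coordinates in hyperbolic pairs -/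
def six (i : Fin 6) : ℕ := [2, 24, 5, 25, 8, 26].getD i.val 0

/-- the partner in a pair -/
def mate : Fin 6 → Fin 6 := ![1, 0, 3, 2, 5, 4]

theorem six_facts : ∀ i : Fin 6, six i < 27 ∧ six i ∉ offW ∧ six i ≠ 17 ∧ flipN (six i) = six (mate i) ∧
    mate (mate i) = i ∧ mate i ≠ i := by decide

theorem six_inj : ∀ i j : Fin 6, six i = six j → i = j := by decide

theorem seven_cases : ∀ k < 27, k ∈ offW ∨ k = 17 ∨ ∃ i : Fin 6, six i = k := by decide +kernel

/-- the possible images of a vector after fixed ones -/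
def okB (j : ℕ) (b : Fin 6 → Bool) : Bool :=
  ((b 0 && b 1) ^^ (b 2 && b 3) ^^ (b 4 && b 5)) == false && decide (∃ i, b i = true) &&
    decide (∀ i : Fin 6, i.val < j → b (mate i) = decide ((mate i).val = j)) &&
    (decide (j ≠ 4) || !b 5)

/-- their numbers -/
def okCount (j : ℕ) : ℕ := [35, 16, 9, 4, 1, 1].getD j 0

theorem ok_counts : ∀ j : Fin 6, (Finset.univ.filter fun b => okB j.val b = true).card ≤ okCount j.val := by
  decide +kernel

variable {K : Type*} [Field K] [CharP K 2] [Fintype K] {w : K}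

/-- the maps fixing the first `j` of the six basis vectors -/
def stab (w : K) (j : ℕ) : Subgroup (GL ι K) where
  carrier := {g | Cen w g ∧ ap g (ev K 17) = ev K 17 ∧
    ∀ i : Fin 6, i.val < j → ap g (ev K (six i)) = ev K (six i)}
  one_mem' := ⟨⟨Keep.one, Commute.one_left _⟩, ap_one _, fun _ _ => ap_one _⟩
  mul_mem' := fun {a b} ha hb => ⟨⟨ha.1.keep.mul hb.1.keep, ha.1.comm.mul_left hb.1.comm⟩,
    by rw [ap_mul, hb.2.1, ha.2.1], fun i hi => by rw [ap_mul, hb.2.2 i hi, ha.2.2 i hi]⟩
  inv_mem' := fun {a} ha => ⟨⟨ha.1.keep.inv, ha.1.comm.inv_left⟩,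
    by conv_lhs => rw [← ha.2.1, ap_inv_ap],
    fun i hi => by conv_lhs => rw [← ha.2.2 i hi, ap_inv_ap]⟩

variable {g : GL ι K}

theorem stab_five {j : ℕ} (hj : 4 ≤ j) (hg : g ∈ stab w j) : Five5 w g :=
  ⟨hg.1, hg.2.1, hg.2.2 0 (lt_of_lt_of_le (by decide) hj), hg.2.2 1 (lt_of_lt_of_le (by decide) hj),
    hg.2.2 2 (lt_of_lt_of_le (by decide) hj), hg.2.2 3 (lt_of_lt_of_le (by decide) hj)⟩

theorem hf_ev {a b : ℕ} (ha : a < 27) (hb : b < 27) (hfa : flipN a < 27) :
    Hf (ev K a) (ev K b) = if b = flipN a then 1 else 0 := by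
  rw [hf_left ha, cn_ev hb hfa]
  split_ifs <;> simp

/-- the image of one of the six vectors -/
theorem image_facts (hK : Fintype.card K = 4) (hw : w * w = w + 1) (hg : g ∈ stab w 0) (i : Fin 6) :
    Seven (ap g (ev K (six i))) ∧ cn (ap g (ev K (six i))) 17 = 0 ∧
      (∀ k : Fin 6, cn (ap g (ev K (six i))) (six k) = 0 ∨ cn (ap g (ev K (six i))) (six k) = 1) ∧
      QA (ap g (ev K (six i))) (ev K 17) = 0 := by
  obtain ⟨hC, h17, -⟩ := hg
  obtain ⟨hi, hoff, hi17, -⟩ := six_facts i
  set v := ap g (ev K (six i))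
  have hv : Seven v := hC.seven hw (seven_ev hi hoff)
  refine ⟨hv, ?_, fun k => ?_, ?_⟩
  · have h := hC.keep.2 (ev K (six i)) (ev K 17)
    rw [h17, hf_right (by norm_num), hf_right (by norm_num), show flipN 17 = 17 from rfl,
      cn_ev hi (by norm_num), if_neg hi17] at h
    exact h
  · have hpair : ∀ y : ι → K, Hf y (ev K (six i)) = QB (ev K 17) y (ev K (six i)) := by
      intro y
      rw [hf_right hi, qb17]
      fin_cases i <;> simp (disch := decide) [six, flipN, cn_ev]
    obtain ⟨hk, -, -, hfk, hmm, -⟩ := six_facts (mate k)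
    rw [(six_facts k).2.2.2.2.1] at hfk
    have h1 : Hf (ev K (six (mate k))) v = QB (ev K 17) (ev K (six (mate k))) v := by
      have e := hpair (ap g⁻¹ (ev K (six (mate k))))
      rw [← hC.keep.2 _ (ev K (six i)), ap_ap_inv, ← QB_inv (three_le hK) hC.keep.1, h17, ap_ap_inv] at e
      exact e
    rw [hf_left hk, hfk, qb17] at h1
    have : cn v (six k) ^ 2 = cn v (six k) := by
      rw [h1]
      fin_cases k <;> simp (disch := decide) [six, mate, cn_ev]
    rw [pow_two] at this
    by_cases h : cn v (six k) = 0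
    · exact .inl h
    · exact .inr (mul_right_cancel₀ h (this.trans (one_mul _).symm))
  · rw [← h17, QA_inv (three_le hK) hC.keep.1, qa17]
    fin_cases i <;> simp (disch := decide) [six, cn_ev]

/-- the code of an image -/
noncomputable def code (g : GL ι K) (j : Fin 6) : Fin 6 → Bool :=
  fun k => by classical exact decide (cn (ap g (ev K (six j))) (six k) = 1)

theorem code_ok (hK : Fintype.card K = 4) (hw : w * w = w + 1) (j : Fin 6) (hg : g ∈ stab w j.val) :
    okB j.val (code g j) = true := by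
  classical
  obtain ⟨hv, h17, hbit, hQ⟩ := image_facts hK hw (⟨hg.1, hg.2.1, fun i hi => absurd hi (Nat.not_lt_zero _)⟩) j
  set v := ap g (ev K (six j)) with hvdef
  have hval : ∀ k, cn v (six k) = E62Fi22.bitv (code g j k) := fun k => by
    show _ = E62Fi22.bitv (decide (cn v (six k) = 1))
    rcases hbit k with h | h <;> simp [h, E62Fi22.bitv]
  simp only [okB, Bool.and_eq_true, decide_eq_true_eq, beq_iff_eq, Bool.or_eq_true, Bool.not_eq_true']
  refine ⟨⟨⟨?_, ?_⟩, fun i hi => ?_⟩, ?_⟩
  · rw [qa17] at hQ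
    have e2 := hval 0; have e24 := hval 1; have e5 := hval 2; have e25 := hval 3
    have e8 := hval 4; have e26 := hval 5
    simp only [six] at e2 e24 e5 e25 e8 e26
    simp only [offW, Seven, List.forall_mem_cons] at hv
    simp only [List.getD_cons_zero, List.getD_cons_succ, Fin.val_zero, Fin.val_one, Fin.val_two,
      show ((3 : Fin 6) : ℕ) = 3 from rfl, show ((4 : Fin 6) : ℕ) = 4 from rfl,
      show ((5 : Fin 6) : ℕ) = 5 from rfl] at e2 e24 e5 e25 e8 e26
    simp only [hv, mul_zero, zero_add, e2, e24, e5, e25, e8, e26] at hQ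
    revert hQ
    cases code g j 0 <;> cases code g j 1 <;> cases code g j 2 <;> cases code g j 3 <;> cases code g j 4 <;>
      cases code g j 5 <;> simp [E62Fi22.bitv, CharTwo.add_self_eq_zero]
  · by_contra hall
    push Not at hall
    have hz : v = 0 := vec_ext fun k hk => by
      rcases seven_cases k hk with h | rfl | ⟨i, rfl⟩
      · exact hv k h
      · exact h17
      · rw [hval, Bool.eq_false_iff.2 (hall i)]; rfl
    have := congrArg (fun x => cn x (six j)) ((congrArg (ap g⁻¹) hz.symm).trans (ap_inv_ap g _))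
    simp [ap, cn_ev (six_facts j).1 (six_facts j).1, cn] at this
  · obtain ⟨hi27, -, -, hfi, -, -⟩ := six_facts i
    have h := hg.1.keep.2 (ev K (six j)) (ev K (six i))
    rw [hg.2.2 i hi, hf_right hi27, hf_right hi27, hfi, ← hvdef, hval,
      cn_ev (six_facts j).1 (six_facts (mate i)).1] at h
    revert h
    by_cases e : (mate i).val = j.val
    · rw [if_pos (by rw [Fin.ext e])]
      cases code g j (mate i) <;> simp [E62Fi22.bitv, e]
    · rw [if_neg fun h' => e (congrArg Fin.val (six_inj _ _ h').symm)]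
      cases code g j (mate i) <;> simp [E62Fi22.bitv, e]
  · by_contra hh
    push Not at hh
    obtain ⟨h4, h5⟩ := hh
    obtain rfl : j = 4 := Fin.ext h4
    have hfive := stab_five le_rfl hg
    refine hfive.no_swap hK hw (vec_ext fun k hk => ?_)
    have hz : ∀ i : Fin 6, i.val < 4 → cn v (six (mate i)) = 0 := fun i hi => by
      have h := hg.1.keep.2 (ev K (six 4)) (ev K (six i))
      rw [hg.2.2 i hi, hf_right (six_facts i).1, hf_right (six_facts i).1, (six_facts i).2.2.2.1, ← hvdef,
        cn_ev (six_facts 4).1 (six_facts (mate i)).1, if_neg] at h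
      · exact h
      · exact (show ∀ i : Fin 6, i.val < 4 → six 4 ≠ six (mate i) by decide) i hi
    have h1 : cn v (six 5) = 1 := by
      rw [hval, Bool.ne_false_iff.1 h5]; rfl
    have hm0 := hz 1 (by decide); have hm1 := hz 0 (by decide); have hm2 := hz 3 (by decide)
    have hm3 := hz 2 (by decide)
    have h4' : cn v (six 4) = 0 := by
      have hQ' := hQ
      rw [qa17] at hQ'
      simp only [six, mate, List.getD_cons_zero, List.getD_cons_succ] at hm0 hm1 hm2 hm3 h1
      simp only [offW, Seven, List.forall_mem_cons] at hv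
      simp_all [six]
    rw [cn_ev (by norm_num) hk]
    show cn v k = _
    rcases seven_cases k hk with h | rfl | ⟨i, rfl⟩
    · rw [hv k h, if_neg]; rintro rfl; exact absurd h (by decide)
    · rw [h17]; simp
    · fin_cases i
      all_goals simp_all [six, mate]

theorem code_step (hK : Fintype.card K = 4) (hw : w * w = w + 1) (j : Fin 6) {a b : GL ι K}
    (ha : a ∈ stab w j.val) (hb : b ∈ stab w j.val) (e : code a j = code b j) :
    a⁻¹ * b ∈ stab w (j.val + 1) := by
  classical
  have h := mul_mem (inv_mem ha) hb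
  refine ⟨h.1, h.2.1, fun i hi => ?_⟩
  rcases Nat.lt_succ_iff_lt_or_eq.1 hi with h' | h'
  · exact h.2.2 i h'
  · obtain rfl : i = j := Fin.ext h'
    obtain ⟨hva, h17a, hbita, -⟩ := image_facts hK hw (⟨ha.1, ha.2.1, fun i hi => absurd hi (Nat.not_lt_zero _)⟩) i
    obtain ⟨hvb, h17b, hbitb, -⟩ := image_facts hK hw (⟨hb.1, hb.2.1, fun i hi => absurd hi (Nat.not_lt_zero _)⟩) i
    have hab : ap b (ev K (six i)) = ap a (ev K (six i)) := vec_ext fun k hk => by
      rcases seven_cases k hk with h | rfl | ⟨l, rfl⟩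
      · rw [hva k h, hvb k h]
      · rw [h17a, h17b]
      · have el : decide (cn (ap a (ev K (six i))) (six l) = 1) =
            decide (cn (ap b (ev K (six i))) (six l) = 1) := congrFun e l
        rcases hbita l with ha' | ha' <;> rcases hbitb l with hb' | hb' <;> simp_all
    rw [ap_mul, hab, ap_inv_ap]

/-- a fibre bound -/
theorem card_le_fibres {G S : Type*} [Group G] (Gr H : Subgroup G) [Finite G] (hle : H ≤ Gr)
    (T : Finset S) (f : G → S) (hf : ∀ x ∈ Gr, f x ∈ T)
    (hsep : ∀ x ∈ Gr, ∀ y ∈ Gr, f x = f y → x⁻¹ * y ∈ H) :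
    Nat.card Gr ≤ T.card * Nat.card H := by
  have hH : Nat.card (H.subgroupOf Gr) = Nat.card H :=
    Nat.card_congr (Subgroup.subgroupOfEquivOfLe hle).toEquiv
  rw [← Subgroup.index_mul_card (H.subgroupOf Gr), hH]
  refine Nat.mul_le_mul_right _ ?_
  rw [Subgroup.index, ← Nat.card_eq_finsetCard]
  refine Nat.card_le_card_of_injective (fun q => (⟨f q.out.1, hf _ q.out.2⟩ : T)) fun p q e => ?_
  rw [← QuotientGroup.out_eq' p, ← QuotientGroup.out_eq' q, QuotientGroup.eq, Subgroup.mem_subgroupOf]
  exact hsep _ p.out.2 _ q.out.2 (congrArg Subtype.val e)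

theorem stab_step (hK : Fintype.card K = 4) (hw : w * w = w + 1) (j : Fin 6) :
    Nat.card (stab w j.val) ≤ okCount j.val * Nat.card (stab w (j.val + 1)) := by
  classical
  refine (card_le_fibres (stab w j.val) (stab w (j.val + 1)) (fun g hg => ⟨hg.1, hg.2.1, fun i hi =>
    hg.2.2 i (Nat.lt_succ_of_lt hi)⟩) (Finset.univ.filter fun b => okB j.val b = true) (fun g => code g j)
    (fun g hg => Finset.mem_filter.2 ⟨Finset.mem_univ _, code_ok hK hw j hg⟩)
    (fun a ha b hb e => code_step hK hw j ha hb e)).trans ?_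
  exact Nat.mul_le_mul_right _ (ok_counts j)

theorem elA_keep (hw : w * w = w + 1) : Keep (elA w : GL ι K) := keep_word hw (words_get (by norm_num))

theorem elA_all7 (hw : w * w = w + 1) : All7 w (elA w : GL ι K) := by
  have hfix : ∀ k < 27, k ∉ offW → ap (elA w) (ev K k) = ev K k := by
    intro k hk h
    have e := (seven_iff hw _).1 (seven_ev (K := K) hk h)
    rw [(A1_identities hw).2.2.2.2, Matrix.add_mulVec, Matrix.one_mulVec] at e
    exact CharTwo.add_eq_zero.1 e
  exact { cen := ⟨elA_keep hw, Commute.refl _⟩, f17 := hfix 17 (by norm_num) (by decide)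
          f2 := hfix 2 (by norm_num) (by decide), f24 := hfix 24 (by norm_num) (by decide)
          f5 := hfix 5 (by norm_num) (by decide), f25 := hfix 25 (by norm_num) (by decide)
          f8 := hfix 8 (by norm_num) (by decide), f26 := hfix 26 (by norm_num) (by decide) }

theorem stab_six {g : GL ι K} : g ∈ stab w 6 ↔ All7 w g :=
  ⟨fun h => { stab_five (by norm_num) h with f8 := h.2.2 4 (by decide), f26 := h.2.2 5 (by decide) },
    fun h => ⟨h.cen, h.f17, fun i _ => by
      fin_cases i
      exacts [h.f2, h.f24, h.f5, h.f25, h.f8, h.f26]⟩⟩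

/-- only the five powers fix all seven -/
theorem all7_power (hK : Fintype.card K = 4) (hw : w * w = w + 1) (hg : All7 w g) :
    ∃ i < 5, g = elA w ^ i := by
  obtain ⟨eA, eB⟩ := elA_pair (K := K) hw (a := 0) (b := 1) (by decide)
  have hlin : ∀ p q : K, ap (elA w) (p • ev K 0 + q • ev K 1) =
      (p + q) • ev K 0 + (p * w + q * (w + 1)) • ev K 1 := fun p q => by
    rw [show ap (elA w) (p • ev K 0 + q • ev K 1) = p • ap (elA w) (ev K 0) + q • ap (elA w) (ev K 1) by
      simp [ap, Matrix.mulVec_add, Matrix.mulVec_smul], eA, eB]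
    module
  have h0 : ap (elA w ^ 0) (ev K 0) = (1 : K) • ev K 0 + (0 : K) • ev K 1 := by
    rw [pow_zero, ap_one, one_smul, zero_smul, add_zero]
  have two := CharTwo.two_eq_zero (R := K)
  have next' : ∀ {i : ℕ} {p q p' q' : K}, ap (elA w ^ i) (ev K 0) = p • ev K 0 + q • ev K 1 →
      p + q = p' → p * w + q * (w + 1) = q' → ap (elA w ^ (i + 1)) (ev K 0) = p' • ev K 0 + q' • ev K 1 :=
    fun h hp hq => by rw [pow_succ', ap_mul, h, hlin, hp, hq]
  have h1 : ap (elA w ^ 1) (ev K 0) = (1 : K) • ev K 0 + w • ev K 1 := next' h0 (by ring) (by ring)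
  have h2 : ap (elA w ^ 2) (ev K 0) = (w + 1) • ev K 0 + (w + 1) • ev K 1 :=
    next' h1 (by ring) (by linear_combination hw + w * two)
  have h3 : ap (elA w ^ 3) (ev K 0) = (0 : K) • ev K 0 + (w + 1) • ev K 1 :=
    next' h2 (by linear_combination (w + 1) * two) (by linear_combination 2 * hw + (2 * w + 1) * two)
  have h4 : ap (elA w ^ 4) (ev K 0) = (w + 1) • ev K 0 + w • ev K 1 :=
    next' h3 (by ring) (by linear_combination hw + (w + 1) * two)
  have hv := two_coords (by norm_num) (by norm_num) (by norm_num) (hg.toFive5.block0 hK hw)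
  have hn := hg.norm_one hK hw
  generalize cn (ap g (ev K 0)) 0 = p at hv hn
  generalize cn (ap g (ev K 0)) 1 = q at hv hn
  have hw0 : w ≠ 0 := fun h => by simp [h] at hw
  have hw1 : w ≠ 1 := fun h => by simp [h, CharTwo.add_self_eq_zero] at hw
  have t1 : w * w = w + 1 := hw
  have t2 : w * (w + 1) = 1 := inv_w hw
  have t3 : (w + 1) * w = 1 := by rw [mul_comm, t2]
  have t4 : (w + 1) * (w + 1) = w := by linear_combination hw + (w + 1) * two
  have t5 : 1 + w ≠ 0 := fun h => hw1 (by linear_combination h - two)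
  have t6 : 1 + w ≠ 1 := fun h => hw0 (by linear_combination h)
  obtain ⟨i, hi, hgi⟩ : ∃ i < 5, ap (elA w ^ i) (ev K 0) = ap g (ev K 0) := by
    rw [hv]
    rcases four_cases hK hw p with rfl | rfl | rfl | rfl <;> rcases four_cases hK hw q with rfl | rfl | rfl | rfl
    all_goals first
      | exact ⟨0, by norm_num, h0⟩ | exact ⟨1, by norm_num, h1⟩ | exact ⟨2, by norm_num, h2⟩
      | exact ⟨3, by norm_num, h3⟩ | exact ⟨4, by norm_num, h4⟩
      | (exfalso
         simp only [pow_two, mul_one, one_mul, mul_zero, zero_mul, add_zero, zero_add, t1, t2, t3, t4] at hn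
         simp [CharTwo.add_self_eq_zero, add_left_comm, add_comm, hw0, hw1, t5, t6] at hn)
  refine ⟨i, hi, ?_⟩
  have hA : elA w ^ i ∈ stab w 6 := pow_mem (stab_six.2 (elA_all7 hw)) i
  have hh : All7 w ((elA w ^ i)⁻¹ * g) := stab_six.1 (mul_mem (inv_mem hA) (stab_six.2 hg))
  have := hh.eq_one hK hw (by rw [ap_mul, ← hgi, ap_inv_ap])
  exact (inv_mul_eq_one.1 this).symm

/-- the bound -/
theorem card_stab (hK : Fintype.card K = 4) (hw : w * w = w + 1) : Nat.card (stab w 0) ≤ 100800 := by
  classical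
  have h6 : Nat.card (stab w 6) ≤ 5 := by
    have hsub : ((stab w 6 : Subgroup (GL ι K)) : Set (GL ι K)) ⊆
        ↑((Finset.range 5).image fun i => (elA w : GL ι K) ^ i) := fun g hg => by
      obtain ⟨i, hi, rfl⟩ := all7_power hK hw (stab_six.1 hg)
      exact Finset.mem_image.2 ⟨i, Finset.mem_range.2 hi, rfl⟩
    have h := Nat.card_mono (Finset.finite_toSet _) hsub
    refine le_trans h ?_
    rw [Nat.card_coe_set_eq, Set.ncard_coe_finset]
    exact Finset.card_image_le.trans (by rw [Finset.card_range])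
  have h0 : Nat.card (stab w 0) ≤ 35 * Nat.card (stab w 1) := stab_step hK hw ⟨0, by norm_num⟩
  have h1 : Nat.card (stab w 1) ≤ 16 * Nat.card (stab w 2) := stab_step hK hw ⟨1, by norm_num⟩
  have h2 : Nat.card (stab w 2) ≤ 9 * Nat.card (stab w 3) := stab_step hK hw ⟨2, by norm_num⟩
  have h3 : Nat.card (stab w 3) ≤ 4 * Nat.card (stab w 4) := stab_step hK hw ⟨3, by norm_num⟩
  have h4 : Nat.card (stab w 4) ≤ 1 * Nat.card (stab w 5) := stab_step hK hw ⟨4, by norm_num⟩
  have h5 : Nat.card (stab w 5) ≤ 1 * Nat.card (stab w 6) := stab_step hK hw ⟨5, by norm_num⟩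
  omega

end CfsgLib.Chev.E62Five
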