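import Cfsg.Agent.Lib.Chev.E62Five.Data
import Cfsg.Agent.Lib.Chev.E62Fi22.Cols

/-!
The checks on the certificate of an element of order five in the twisted group of type E6 over four
elements: the words, the relations between their matrices, and the invariance of the hermitian pairing.
-/

set_option autoImplicit false
set_option maxRecDepth 100000

namespace CfsgLib.Chev.E62Five

open CfsgLib.KnownB.Fi22Mult.Rep (Vc vx wm app eqL)
open CfsgLib.Chev.E62Fi22 (colsX colsL expand scRows roots)

/-- the auxiliary words as letters -/
def bigW : List (List (ℕ × ℕ)) :=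
  bigD.map fun d => d.flatMap fun i => atomW.getD (i - 25) []

/-- all the words as letters -/
def words : List (List (ℕ × ℕ)) :=
  topD.map (fun d => d.flatMap fun i => (bigW ++ atomW).getD (i - 12) []) ++ bigW ++ atomW

/-- the parts of a word -/
def partsD : List (List ℕ) := topD ++ bigD

/-- a word with allowed letters -/
def wordOK (w : List (ℕ × ℕ)) : Bool :=
  (w.all fun l => Nat.blt l.1 8 && Nat.blt 0 l.2 && Nat.blt l.2 4 && (Nat.ble 4 l.1 || Nat.beq l.2 1)) &&
    ((w.flatMap expand).all fun p => decide (p.1 ∈ roots))

theorem wordsOK_true : (words.all wordOK) = true := by decide +kernel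

/-- the words are composed of their parts -/
def shapeOK : Bool :=
  (List.range 12).all (fun i => (partsD.getD i []).all fun j => Nat.ble 12 j && Nat.blt j 45) &&
    (List.range 13).all (fun i => (partsD.getD (12 + i) []).all fun j => Nat.ble 25 j && Nat.blt j 45) &&
    Nat.beq words.length 45 && Nat.beq mats.length 45 && (mats.all fun m => Nat.beq m.length 27) &&
    ((List.range 25).all fun i =>
      decide (words.getD i [] = (partsD.getD i []).flatMap fun j => words.getD j []))

theorem shapeOK_true : shapeOK = true := by decide +kernel

/-- the matrix of a product of the twelve -/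
def prodC : List ℕ → List Vc
  | [] => scRows id
  | i :: u => (prodC u).map (app (mats.getD i (scRows id)) 0)

/-- a product and the matrix of its parts -/
def partsOK (i : ℕ) : Bool := eqL (prodC (partsD.getD i [])) (mats.getD i (scRows id))

theorem parts_true : ((List.range 25).all partsOK) = true := by decide +kernel

/-- a short word and its matrix -/
def atomOK (i : ℕ) : Bool :=
  eqL (colsL ((words.getD i []).flatMap expand)) (mats.getD i (scRows id))

theorem atoms_true : ((List.range' 25 20).all atomOK) = true := by decide +kernel

/-- two words with one value -/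
def sameC (p : List ℕ × List ℕ) : Bool := eqL (prodC p.1) (prodC p.2)

/-- the images of the first two words under conjugation by the first three normalizing ones -/
def images : List ((ℕ × ℕ) × (ℕ × ℕ)) := [((0, 1), (2, 0)), ((1, 0), (0, 2)), ((4, 0), (0, 1))]

/-- powers of the first two words -/
def pairW (e : ℕ × ℕ) : List ℕ := List.replicate e.1 0 ++ List.replicate e.2 1

/-- the relations -/
def relList : List (List ℕ × List ℕ) :=
  [(List.replicate 5 0, []), (List.replicate 5 1, []), ([0, 1], [1, 0]), ([2, 2, 2], []),
    ([11, 0], [0, 1, 11])] ++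
  ((List.range 5).map fun i => ([i + 3, i + 3], [])) ++
  ((List.range 5).map fun i => ((List.replicate 3 [i + 2, i + 3]).flatten, [])) ++
  (((List.range 6).flatMap fun i => (List.range 6).map fun j => (i, j)).filter fun p =>
      Nat.blt (p.1 + 1) p.2).map (fun p => ([p.1 + 2, p.2 + 2, p.1 + 2, p.2 + 2], [])) ++
  ((List.range 6).map fun i => ([0, i + 2], [i + 2, 0])) ++
  (List.range 3).flatMap (fun k =>
    [([k + 8, 0], pairW (images.getD k ((0, 0), (0, 0))).1 ++ [k + 8]),
      ([k + 8, 1], pairW (images.getD k ((0, 0), (0, 0))).2 ++ [k + 8])])

theorem relList_bound : (relList.all fun p => (p.1 ++ p.2).all fun i => Nat.blt i 12) = true := by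
  decide +kernel

theorem rels_true : (relList.all sameC) = true := by decide +kernel

/-- the coordinate paired with a given one by the hermitian pairing -/
def flipN (k : ℕ) : ℕ := 9 * (2 - k / 9) + 3 * (k % 3) + k % 9 / 3

/-- the entries satisfy `Mᵀ P = P M̄` -/
def hermB (M : List Vc) : Bool :=
  (List.range 27).all fun i => (List.range 27).all fun k =>
    let u := M.getD i (0, 0)
    let v := M.getD k (0, 0)
    (u.1.testBit (flipN k) == (v.1.testBit (flipN i) ^^ v.2.testBit (flipN i))) &&
      (u.2.testBit (flipN k) == v.2.testBit (flipN i))

/-- the twisted generators -/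
def letters : List (ℕ × ℕ) :=
  [(0, 1), (1, 1), (2, 1), (3, 1)] ++ [4, 5, 6, 7].flatMap (fun i => [(i, 1), (i, 2), (i, 3)])

/-- a twisted generator is an involution preserving the pairing -/
def letterOK (l : ℕ × ℕ) : Bool :=
  hermB (colsL (expand l)) && eqL (colsL (expand l ++ expand l)) (scRows id)

theorem letters_true : (letters.all letterOK) = true := by decide +kernel

/-- the projection on a set of coordinates -/
def projC (L : List ℕ) : List Vc :=
  (List.range 27).map fun k => bif L.contains k then (1 <<< k, 0) else (0, 0)

/-- the coordinates off the kernel of `A + 1` -/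
def offW : List ℕ := [0, 1, 3, 4, 6, 7, 9, 10, 11, 12, 13, 14, 15, 16, 18, 19, 20, 21, 22, 23]

/-- eight coordinates on which `A² + wA + 1` is invertible -/
def upB : List ℕ := [15, 16, 18, 19, 20, 21, 22, 23]

/-- the matrix of `A + 1` -/
def colsA1 : List Vc := List.zipWith vx colsA (scRows id)

/-- the matrix of `A² + wA + 1` -/
def colsQ : List Vc :=
  List.zipWith vx (List.zipWith vx (colsA.map (app colsA 0)) (colsA.map wm)) (scRows id)

theorem invA_left : eqL (colsA1.map (app invA 0)) (projC offW) = true := by decide +kernel

theorem invA_right : eqL (invA.map (app colsA1 0)) (projC offW) = true := by decide +kernel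

theorem invQ_left : eqL (colsQ.map (app invQ 0)) (projC upB) = true := by decide +kernel

theorem colsA1_left : eqL (colsA1.map (app (projC offW) 0)) colsA1 = true := by decide +kernel

theorem colsA1_right : eqL ((projC offW).map (app colsA1 0)) colsA1 = true := by decide +kernel

theorem colsQ_zero : ([0, 1, 3, 4, 6, 7, 11, 14].all fun k =>
    decide (colsQ.getD k (1, 1) = ((0, 0) : Vc))) = true := by decide +kernel

theorem colsA_ends : colsA.getD 0 (0, 0) = (1, 2) ∧ colsA.getD 1 (0, 0) = (3, 2) ∧ colsA.length = 27 ∧
    invA.length = 27 ∧ invQ.length = 27 := by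
  decide +kernel

end CfsgLib.Chev.E62Five
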