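import Cfsg.Agent.Lib.Chev.E62Five.Chain
import Cfsg.Agent.Lib.Chev.Twist.Fam.E6

/-!
The certificate words as elements of the twisted group and the relations between them.
-/

set_option autoImplicit false
set_option maxRecDepth 100000
set_option linter.unusedSectionVars false

namespace CfsgLib.Chev.E62Five

open Cfsg.Lie Matrix CfsgLib.Chev CfsgLib.Chev.E6Form
open CfsgLib.Chev.E62Fi22 (matOf matOf_map_app scRows expand roots roots_lt)
open CfsgLib.KnownB.Fi22Mult.Rep (Vc app eqL eqL_sound)

variable {K : Type*} [Field K] [CharP K 2] {w : K}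

/-- the map of a word -/
noncomputable def elW (w : K) (i : ℕ) : GL ι K := E62Fi22.elemL w ((words.getD i []).flatMap expand)

theorem elW_parts (w : K) (d : List ℕ) :
    E62Fi22.elemL w ((d.flatMap fun j => words.getD j []).flatMap expand) = (d.map (elW w)).prod := by
  induction d with
  | nil => simp [E62Fi22.elemL]
  | cons a d ih =>
    rw [List.flatMap_cons, List.flatMap_append, List.map_cons, List.prod_cons, ← ih, elW, E62Fi22.elemL,
      E62Fi22.elemL, E62Fi22.elemL, ← List.prod_append, ← List.map_append]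

theorem mats_len (i : ℕ) : (mats.getD i (scRows id)).length = 27 := by
  have h := shapeOK_true
  simp only [shapeOK, Bool.and_eq_true, List.all_eq_true] at h
  rcases lt_or_ge i mats.length with hi | hi
  · rw [List.getD_eq_getElem?_getD, List.getElem?_eq_getElem hi, Option.getD_some]
    exact Nat.eq_of_beq_eq_true (h.1.2 _ (List.getElem_mem hi))
  · rw [List.getD_eq_getElem?_getD, List.getElem?_eq_none hi]
    exact E62Fi22.len_scRows id

theorem len_prodC : ∀ u : List ℕ, (prodC u).length = 27
  | [] => E62Fi22.len_scRows id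
  | i :: u => by rw [prodC, List.length_map, len_prodC u]

theorem prod_val (hw : w * w = w + 1) : ∀ d : List ℕ,
    (∀ i ∈ d, ((elW w i : GL ι K) : Matrix ι ι K) = matOf w (mats.getD i (scRows id))) →
      (((d.map (elW w)).prod : GL ι K) : Matrix ι ι K) = matOf w (prodC d)
  | [], _ => by rw [prodC, E62Fi22.matOf_id]; rfl
  | i :: d, h => by
    rw [List.map_cons, List.prod_cons, Units.val_mul, h i List.mem_cons_self,
      prod_val hw d fun j hj => h j (List.mem_cons_of_mem _ hj), prodC,
      matOf_map_app hw (len_prodC d) (mats_len i)]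

theorem elW_val (hw : w * w = w + 1) {i : ℕ} (hi : i < 45) :
    ((elW w i : GL ι K) : Matrix ι ι K) = matOf w (mats.getD i (scRows id)) := by
  have atom : ∀ i, 25 ≤ i → i < 45 →
      ((elW w i : GL ι K) : Matrix ι ι K) = matOf w (mats.getD i (scRows id)) := by
    intro i h1 h2
    have h := words_get h2
    simp only [wordOK, Bool.and_eq_true, List.all_eq_true, decide_eq_true_eq] at h
    rw [elW, E62Fi22.elemL_val hw _ h.2,
      eqL_sound (List.all_eq_true.1 atoms_true i (by rw [List.mem_range'_1]; omega))]
  have hs := shapeOK_true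
  simp only [shapeOK, Bool.and_eq_true, List.all_eq_true, List.mem_range, decide_eq_true_eq] at hs
  obtain ⟨⟨⟨⟨⟨htop, hbig⟩, -⟩, -⟩, -⟩, hword⟩ := hs
  have comp : ∀ i < 25,
      (∀ j ∈ partsD.getD i [], ((elW w j : GL ι K) : Matrix ι ι K) = matOf w (mats.getD j (scRows id))) →
      ((elW w i : GL ι K) : Matrix ι ι K) = matOf w (mats.getD i (scRows id)) := by
    intro i hi h
    rw [elW, hword i hi, elW_parts, prod_val hw _ h,
      eqL_sound (List.all_eq_true.1 parts_true i (List.mem_range.2 hi))]
  have big : ∀ i, 12 ≤ i → i < 25 →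
      ((elW w i : GL ι K) : Matrix ι ι K) = matOf w (mats.getD i (scRows id)) := fun i h1 h2 =>
    comp i h2 fun j hj => by
      have := hbig (i - 12) (by omega) j (by rwa [Nat.add_sub_cancel' h1])
      simp only [Nat.ble_eq, Nat.blt_eq] at this
      exact atom j this.1 this.2
  rcases Nat.lt_or_ge i 25 with h25 | h25
  · rcases Nat.lt_or_ge i 12 with h12 | h12
    · refine comp i h25 fun j hj => ?_
      have := htop i h12 j hj
      simp only [Nat.ble_eq, Nat.blt_eq] at this
      rcases Nat.lt_or_ge j 25 with hj25 | hj25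
      · exact big j this.1 hj25
      · exact atom j hj25 this.2
    · exact big i h12 h25
  · exact atom i h25 hi

theorem rel_eq (hw : w * w = w + 1) {p : List ℕ × List ℕ} (hp : p ∈ relList) :
    (p.1.map (elW w)).prod = (p.2.map (elW w)).prod := by
  have hb := List.all_eq_true.1 relList_bound p hp
  simp only [List.all_eq_true, List.mem_append, Nat.blt_eq] at hb
  refine Units.ext ?_
  rw [prod_val hw _ fun i hi => elW_val hw (by have := hb i (.inl hi); omega),
    prod_val hw _ fun i hi => elW_val hw (by have := hb i (.inr hi); omega),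
    eqL_sound (List.all_eq_true.1 rels_true p hp)]

variable [Fintype K]

theorem letter_twisted (hw : w * w = w + 1) {l : ℕ × ℕ} (hl : wordOK [l] = true) :
    ((expand l).map fun p => xG stdE6.good p.1 (E62Fi22.tval w p.2)).prod ∈ twistedE6 K 2 := by
  haveI : Fact (Nat.Prime 2) := ⟨Nat.prime_two⟩
  set σ : K →+* K := frobenius K 2
  have hσ : ∀ x, σ x = x ^ 2 := fun x => frobenius_def 2 x
  simp only [wordOK, List.all_cons, List.all_nil, Bool.and_eq_true, Bool.and_true] at hl
  obtain ⟨⟨⟨⟨h1, h2⟩, h3⟩, h4⟩, -⟩ := hl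
  obtain ⟨j, c⟩ := l
  simp only [Nat.blt_eq, Bool.or_eq_true, Nat.ble_eq, Nat.beq_eq_true_eq] at h1 h2 h3 h4
  have ht : σ (E62Fi22.tval w c) = E62Fi22.tval w (E62Fi22.cjCode c) := by
    rw [hσ]
    obtain ⟨t0, t1, t2, t3⟩ := tval_codes w
    interval_cases c
    · rw [show E62Fi22.cjCode 1 = 1 from rfl, t1, one_pow]
    · rw [show E62Fi22.cjCode 2 = 3 from rfl, t2, t3, pow_two, hw]
    · rw [show E62Fi22.cjCode 3 = 2 from rfl, t2, t3, CharTwo.add_sq, one_pow, pow_two, hw, add_assoc,
        CharTwo.add_self_eq_zero, add_zero]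
  interval_cases j
  all_goals simp [E62Fi22.expand, E62Fi22.rootPair, Nat.blt, Nat.ble]
  all_goals first
    | (rw [← ht]; refine E62.word2 hσ ?_ _; decide)
    | (obtain rfl : c = 1 := Nat.eq_of_beq_eq_true (h4.resolve_left (by omega))
       refine E62.word1 hσ ?_ ?_
       · decide
       · rw [hσ, (tval_codes w).2.1, one_pow])

omit [CharP K 2] [Fintype K] in
theorem twisted_le : twistedE6 K 2 ≤ chevE6.group K := by
  rw [twistedE6, genSubgroup_eq stdE6.good, Subgroup.closure_le]
  rintro y ⟨u, -, rfl⟩
  exact Subgroup.list_prod_mem _ fun z hz => by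
    obtain ⟨c, -, rfl⟩ := List.mem_map.1 hz
    exact xG_mem_group stdE6.good _ _

/-- the projective image of the twisted group -/
noncomputable def chiT (R : E62Fi22.Rep K w) : ↥(twistedE6 K 2) →* E62Fi22.Q27 K :=
  R.χ.comp (Subgroup.inclusion twisted_le)

theorem chiT_inj (R : E62Fi22.Rep K w) : Function.Injective (chiT R) :=
  R.inj.comp (Subgroup.inclusion_injective _)

theorem word_elem (hw : w * w = w + 1) (R : E62Fi22.Rep K w) : ∀ {W : List (ℕ × ℕ)}, wordOK W = true →
    ∃ x : ↥(twistedE6 K 2), chiT R x = E62Fi22.pr (E62Fi22.elemL w (W.flatMap expand))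
  | [], _ => ⟨1, by rw [map_one]; exact (map_one _).symm⟩
  | l :: W, h => by
    simp only [wordOK, List.all_cons, List.flatMap_cons, List.all_append, Bool.and_eq_true] at h
    obtain ⟨y, hy⟩ := word_elem hw R (W := W) (by simp only [wordOK, Bool.and_eq_true]; exact ⟨h.1.2, h.2.2⟩)
    have hl : wordOK [l] = true := by
      simp only [wordOK, List.all_cons, List.all_nil, List.flatMap_cons, List.flatMap_nil, List.append_nil,
        Bool.and_eq_true, Bool.and_true]
      exact ⟨h.1.1, h.2.1⟩
    have hr := mem_roots hl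
    let z : ↥(twistedE6 K 2) := ⟨_, letter_twisted hw hl⟩
    refine ⟨z * y, ?_⟩
    rw [map_mul, hy, List.flatMap_cons, E62Fi22.elemL, E62Fi22.elemL, List.map_append, List.prod_append,
      map_mul]
    congr 1
    let u : chevE6.SteinbergCover K :=
      ((expand l).map fun p => chevE6.scGen K p.1 (E62Fi22.tval w p.2)).prod
    have e1 : R.θ u = Subgroup.inclusion twisted_le z := by
      apply Subtype.ext
      rw [show u = _ from rfl, map_list_prod, SubmonoidClass.coe_list_prod, List.map_map, List.map_map]
      exact congrArg List.prod (List.map_congr_left fun p hp =>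
        (eq_xG_iff stdE6.good).1 (R.gen _ _ (roots_lt (hr p hp))))
    show R.χ (Subgroup.inclusion twisted_le z) = _
    rw [← e1, R.comp, show u = _ from rfl, map_list_prod, List.map_map]
    exact congrArg (fun L => E62Fi22.pr (List.prod L))
      (List.map_congr_left fun p hp => lift_stX (roots_lt (hr p hp)) _)

/-- elements with the relations of the certificate -/
structure Pts (R : E62Fi22.Rep K w) where
  x : ℕ → ↥(twistedE6 K 2)
  val : ∀ i < 45, chiT R (x i) = E62Fi22.pr (elW w i)
  rel : ∀ p ∈ relList, (p.1.map x).prod = (p.2.map x).prod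

theorem exists_pts (hw : w * w = w + 1) (R : E62Fi22.Rep K w) : Nonempty (Pts R) := by
  classical
  choose f hf using fun i : Fin 45 => word_elem hw R (words_get i.isLt)
  let x : ℕ → ↥(twistedE6 K 2) := fun i => if h : i < 45 then f ⟨i, h⟩ else 1
  have hx : ∀ i < 45, chiT R (x i) = E62Fi22.pr (elW w i) := fun i hi => by
    simp only [x, dif_pos hi]
    exact hf ⟨i, hi⟩
  refine ⟨⟨x, hx, fun p hp => chiT_inj R ?_⟩⟩
  have hb := List.all_eq_true.1 relList_bound p hp
  simp only [List.all_eq_true, List.mem_append, Nat.blt_eq] at hb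
  have e : ∀ u : List ℕ, (∀ i ∈ u, i < 12) → chiT R (u.map x).prod = E62Fi22.pr (u.map (elW w)).prod := by
    intro u hu
    rw [map_list_prod, map_list_prod, List.map_map, List.map_map]
    exact congrArg List.prod (List.map_congr_left fun i hi => hx i (by have := hu i hi; omega))
  rw [e _ fun i hi => hb i (.inl hi), e _ fun i hi => hb i (.inr hi), rel_eq hw hp]

end CfsgLib.Chev.E62Five
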