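import Cfsg.Agent.Lib.Chev.E62Five.Herm

/-!
Values of the polarised cubic form and of the hermitian pairing with a basis vector in one place.
Coordinates are referred to by their numbers.
-/

set_option autoImplicit false
set_option maxRecDepth 100000
set_option linter.unusedSectionVars false
set_option linter.unusedSimpArgs false

namespace CfsgLib.Chev.E62Five

open Matrix CfsgLib.Chev CfsgLib.Chev.E6Form

variable {K : Type*} [Field K] [CharP K 2]

/-- a coordinate of a vector -/
abbrev cn (v : ι → K) (k : ℕ) : K := v (cd k)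

/-- a basis vector -/
abbrev ev (K : Type*) [Field K] (k : ℕ) : ι → K := bs K (cd k)

theorem neg_one_cast : ((-1 : ℤ) : K) = 1 := by simp [CharTwo.neg_eq]

theorem cn_ev {j k : ℕ} (hj : j < 27) (hk : k < 27) : cn (ev K j) k = if j = k then 1 else 0 := by
  by_cases h : j = k
  · subst h; simp [cn, ev]
  · rw [if_neg h, cn, ev, bs, Pi.single_eq_of_ne fun e => h (cd_inj hk hj e).symm]


theorem qb_num (u v w : ι → K) : QB u v w = (monN.map fun m => (m.2.2.2 : K) *
    (cn u m.1 * cn v m.2.1 * cn w m.2.2.1 + cn u m.1 * cn w m.2.1 * cn v m.2.2.1 +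
      cn v m.1 * cn u m.2.1 * cn w m.2.2.1 + cn v m.1 * cn w m.2.1 * cn u m.2.2.1 +
      cn w m.1 * cn u m.2.1 * cn v m.2.2.1 + cn w m.1 * cn v m.2.1 * cn u m.2.2.1)).sum := by
  rw [QB, BL, mon, List.map_map]
  rfl

theorem qa_num (v w : ι → K) : QA v w = (monN.map fun m => (m.2.2.2 : K) *
    (cn w m.1 * cn v m.2.1 * cn v m.2.2.1 + cn v m.1 * cn w m.2.1 * cn v m.2.2.1 +
      cn v m.1 * cn v m.2.1 * cn w m.2.2.1)).sum := by
  rw [QA, AL, mon, List.map_map]
  rfl

theorem qb2 (x y : ι → K) : QB (ev K 2) x y =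
      (cn x 3 * cn y 7 + cn x 7 * cn y 3) +
      (cn x 4 * cn y 6 + cn x 6 * cn y 4) +
      (cn x 15 * cn y 18 + cn x 18 * cn y 15) +
      (cn x 16 * cn y 21 + cn x 21 * cn y 16) +
      (cn x 17 * cn y 24 + cn x 24 * cn y 17) := by
  simp (disch := decide) only [qb_num, monN, List.map_cons, List.map_nil, List.sum_cons, List.sum_nil, cn_ev,
    Int.cast_one, neg_one_cast, Nat.reduceEqDiff, if_true, if_false, mul_zero, zero_mul, add_zero, zero_add,
    one_mul, mul_one]
  ring

theorem qa2 (y : ι → K) : QA y (ev K 2) = cn y 3 * cn y 7 + cn y 4 * cn y 6 + cn y 15 * cn y 18 + cn y 16 * cn y 21 + cn y 17 * cn y 24 := by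
  simp (disch := decide) only [qa_num, monN, List.map_cons, List.map_nil, List.sum_cons, List.sum_nil, cn_ev,
    Int.cast_one, neg_one_cast, Nat.reduceEqDiff, if_true, if_false, mul_zero, zero_mul, add_zero, zero_add,
    one_mul, mul_one]
  try ring

theorem qb5 (x y : ι → K) : QB (ev K 5) x y =
      (cn x 0 * cn y 7 + cn x 7 * cn y 0) +
      (cn x 1 * cn y 6 + cn x 6 * cn y 1) +
      (cn x 15 * cn y 19 + cn x 19 * cn y 15) +
      (cn x 16 * cn y 22 + cn x 22 * cn y 16) +
      (cn x 17 * cn y 25 + cn x 25 * cn y 17) := by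
  simp (disch := decide) only [qb_num, monN, List.map_cons, List.map_nil, List.sum_cons, List.sum_nil, cn_ev,
    Int.cast_one, neg_one_cast, Nat.reduceEqDiff, if_true, if_false, mul_zero, zero_mul, add_zero, zero_add,
    one_mul, mul_one]
  ring

theorem qa5 (y : ι → K) : QA y (ev K 5) = cn y 0 * cn y 7 + cn y 1 * cn y 6 + cn y 15 * cn y 19 + cn y 16 * cn y 22 + cn y 17 * cn y 25 := by
  simp (disch := decide) only [qa_num, monN, List.map_cons, List.map_nil, List.sum_cons, List.sum_nil, cn_ev,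
    Int.cast_one, neg_one_cast, Nat.reduceEqDiff, if_true, if_false, mul_zero, zero_mul, add_zero, zero_add,
    one_mul, mul_one]
  try ring

theorem qb8 (x y : ι → K) : QB (ev K 8) x y =
      (cn x 0 * cn y 4 + cn x 4 * cn y 0) +
      (cn x 1 * cn y 3 + cn x 3 * cn y 1) +
      (cn x 15 * cn y 20 + cn x 20 * cn y 15) +
      (cn x 16 * cn y 23 + cn x 23 * cn y 16) +
      (cn x 17 * cn y 26 + cn x 26 * cn y 17) := by
  simp (disch := decide) only [qb_num, monN, List.map_cons, List.map_nil, List.sum_cons, List.sum_nil, cn_ev,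
    Int.cast_one, neg_one_cast, Nat.reduceEqDiff, if_true, if_false, mul_zero, zero_mul, add_zero, zero_add,
    one_mul, mul_one]
  ring

theorem qa8 (y : ι → K) : QA y (ev K 8) = cn y 0 * cn y 4 + cn y 1 * cn y 3 + cn y 15 * cn y 20 + cn y 16 * cn y 23 + cn y 17 * cn y 26 := by
  simp (disch := decide) only [qa_num, monN, List.map_cons, List.map_nil, List.sum_cons, List.sum_nil, cn_ev,
    Int.cast_one, neg_one_cast, Nat.reduceEqDiff, if_true, if_false, mul_zero, zero_mul, add_zero, zero_add,
    one_mul, mul_one]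
  try ring

theorem qb17 (x y : ι → K) : QB (ev K 17) x y =
      (cn x 9 * cn y 13 + cn x 13 * cn y 9) +
      (cn x 10 * cn y 12 + cn x 12 * cn y 10) +
      (cn x 2 * cn y 24 + cn x 24 * cn y 2) +
      (cn x 5 * cn y 25 + cn x 25 * cn y 5) +
      (cn x 8 * cn y 26 + cn x 26 * cn y 8) := by
  simp (disch := decide) only [qb_num, monN, List.map_cons, List.map_nil, List.sum_cons, List.sum_nil, cn_ev,
    Int.cast_one, neg_one_cast, Nat.reduceEqDiff, if_true, if_false, mul_zero, zero_mul, add_zero, zero_add,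
    one_mul, mul_one]
  ring

theorem qa17 (y : ι → K) : QA y (ev K 17) = cn y 9 * cn y 13 + cn y 10 * cn y 12 + cn y 2 * cn y 24 + cn y 5 * cn y 25 + cn y 8 * cn y 26 := by
  simp (disch := decide) only [qa_num, monN, List.map_cons, List.map_nil, List.sum_cons, List.sum_nil, cn_ev,
    Int.cast_one, neg_one_cast, Nat.reduceEqDiff, if_true, if_false, mul_zero, zero_mul, add_zero, zero_add,
    one_mul, mul_one]
  try ring

theorem qb24 (x y : ι → K) : QB (ev K 24) x y =
      (cn x 19 * cn y 23 + cn x 23 * cn y 19) +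
      (cn x 20 * cn y 22 + cn x 22 * cn y 20) +
      (cn x 0 * cn y 11 + cn x 11 * cn y 0) +
      (cn x 1 * cn y 14 + cn x 14 * cn y 1) +
      (cn x 2 * cn y 17 + cn x 17 * cn y 2) := by
  simp (disch := decide) only [qb_num, monN, List.map_cons, List.map_nil, List.sum_cons, List.sum_nil, cn_ev,
    Int.cast_one, neg_one_cast, Nat.reduceEqDiff, if_true, if_false, mul_zero, zero_mul, add_zero, zero_add,
    one_mul, mul_one]
  ring

theorem qa24 (y : ι → K) : QA y (ev K 24) = cn y 19 * cn y 23 + cn y 20 * cn y 22 + cn y 0 * cn y 11 + cn y 1 * cn y 14 + cn y 2 * cn y 17 := by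
  simp (disch := decide) only [qa_num, monN, List.map_cons, List.map_nil, List.sum_cons, List.sum_nil, cn_ev,
    Int.cast_one, neg_one_cast, Nat.reduceEqDiff, if_true, if_false, mul_zero, zero_mul, add_zero, zero_add,
    one_mul, mul_one]
  try ring

theorem qb25 (x y : ι → K) : QB (ev K 25) x y =
      (cn x 18 * cn y 23 + cn x 23 * cn y 18) +
      (cn x 20 * cn y 21 + cn x 21 * cn y 20) +
      (cn x 3 * cn y 11 + cn x 11 * cn y 3) +
      (cn x 4 * cn y 14 + cn x 14 * cn y 4) +
      (cn x 5 * cn y 17 + cn x 17 * cn y 5) := by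
  simp (disch := decide) only [qb_num, monN, List.map_cons, List.map_nil, List.sum_cons, List.sum_nil, cn_ev,
    Int.cast_one, neg_one_cast, Nat.reduceEqDiff, if_true, if_false, mul_zero, zero_mul, add_zero, zero_add,
    one_mul, mul_one]
  ring

theorem qa25 (y : ι → K) : QA y (ev K 25) = cn y 18 * cn y 23 + cn y 20 * cn y 21 + cn y 3 * cn y 11 + cn y 4 * cn y 14 + cn y 5 * cn y 17 := by
  simp (disch := decide) only [qa_num, monN, List.map_cons, List.map_nil, List.sum_cons, List.sum_nil, cn_ev,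
    Int.cast_one, neg_one_cast, Nat.reduceEqDiff, if_true, if_false, mul_zero, zero_mul, add_zero, zero_add,
    one_mul, mul_one]
  try ring

theorem qb26 (x y : ι → K) : QB (ev K 26) x y =
      (cn x 18 * cn y 22 + cn x 22 * cn y 18) +
      (cn x 19 * cn y 21 + cn x 21 * cn y 19) +
      (cn x 6 * cn y 11 + cn x 11 * cn y 6) +
      (cn x 7 * cn y 14 + cn x 14 * cn y 7) +
      (cn x 8 * cn y 17 + cn x 17 * cn y 8) := by
  simp (disch := decide) only [qb_num, monN, List.map_cons, List.map_nil, List.sum_cons, List.sum_nil, cn_ev,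
    Int.cast_one, neg_one_cast, Nat.reduceEqDiff, if_true, if_false, mul_zero, zero_mul, add_zero, zero_add,
    one_mul, mul_one]
  ring

theorem qa26 (y : ι → K) : QA y (ev K 26) = cn y 18 * cn y 22 + cn y 19 * cn y 21 + cn y 6 * cn y 11 + cn y 7 * cn y 14 + cn y 8 * cn y 17 := by
  simp (disch := decide) only [qa_num, monN, List.map_cons, List.map_nil, List.sum_cons, List.sum_nil, cn_ev,
    Int.cast_one, neg_one_cast, Nat.reduceEqDiff, if_true, if_false, mul_zero, zero_mul, add_zero, zero_add,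
    one_mul, mul_one]
  try ring

theorem qb11 (x y : ι → K) : QB (ev K 11) x y =
      (cn x 12 * cn y 16 + cn x 16 * cn y 12) +
      (cn x 13 * cn y 15 + cn x 15 * cn y 13) +
      (cn x 0 * cn y 24 + cn x 24 * cn y 0) +
      (cn x 3 * cn y 25 + cn x 25 * cn y 3) +
      (cn x 6 * cn y 26 + cn x 26 * cn y 6) := by
  simp (disch := decide) only [qb_num, monN, List.map_cons, List.map_nil, List.sum_cons, List.sum_nil, cn_ev,
    Int.cast_one, neg_one_cast, Nat.reduceEqDiff, if_true, if_false, mul_zero, zero_mul, add_zero, zero_add,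
    one_mul, mul_one]
  ring

theorem qb14 (x y : ι → K) : QB (ev K 14) x y =
      (cn x 9 * cn y 16 + cn x 16 * cn y 9) +
      (cn x 10 * cn y 15 + cn x 15 * cn y 10) +
      (cn x 1 * cn y 24 + cn x 24 * cn y 1) +
      (cn x 4 * cn y 25 + cn x 25 * cn y 4) +
      (cn x 7 * cn y 26 + cn x 26 * cn y 7) := by
  simp (disch := decide) only [qb_num, monN, List.map_cons, List.map_nil, List.sum_cons, List.sum_nil, cn_ev,
    Int.cast_one, neg_one_cast, Nat.reduceEqDiff, if_true, if_false, mul_zero, zero_mul, add_zero, zero_add,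
    one_mul, mul_one]
  ring

theorem qa_self17 (y : ι → K) : QA (ev K 17) y = 0 := by
  simp (disch := decide) only [qa_num, monN, List.map_cons, List.map_nil, List.sum_cons, List.sum_nil, cn_ev,
    Int.cast_one, neg_one_cast, Nat.reduceEqDiff, if_true, if_false, mul_zero, zero_mul, add_zero, zero_add,
    one_mul, mul_one]

theorem hf_right {k : ℕ} (hk : k < 27) (v : ι → K) : Hf v (ev K k) = cn v (flipN k) := by
  rw [Hf, Finset.sum_eq_single (hflip (cd k))]
  · rw [hflip_hflip, ev, bs, Pi.single_eq_same, one_pow, mul_one]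
    show v _ = v _
    rw [← E62Fi22.cd_pos (hflip (cd k)), pos_hflip, E62Fi22.pos_cd hk]
  · intro i _ hi
    have : hflip i ≠ cd k := fun e => hi (by rw [← e, hflip_hflip])
    simp [ev, bs, Pi.single_eq_of_ne this]
  · exact fun h => absurd (Finset.mem_univ _) h

theorem hf_left {k : ℕ} (hk : k < 27) (v : ι → K) : Hf (ev K k) v = cn v (flipN k) ^ 2 := by
  rw [Hf, Finset.sum_eq_single (cd k)]
  · rw [ev, bs, Pi.single_eq_same, one_mul]
    show v _ ^ 2 = v _ ^ 2
    rw [← E62Fi22.cd_pos (hflip (cd k)), pos_hflip, E62Fi22.pos_cd hk]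
  · intro i _ hi
    simp [ev, bs, Pi.single_eq_of_ne hi]
  · exact fun h => absurd (Finset.mem_univ _) h

/-- the polarisation on vectors supported on the seven coordinates -/
theorem qb_seven (u x y : ι → K) (hu : ∀ k ∈ offW, cn u k = 0) (hx : ∀ k ∈ offW, cn x k = 0)
    (hy : ∀ k ∈ offW, cn y k = 0) :
    QB u x y = cn u 17 * (cn x 2 * cn y 24 + cn x 24 * cn y 2 + cn x 5 * cn y 25 + cn x 25 * cn y 5 +
        cn x 8 * cn y 26 + cn x 26 * cn y 8) +
      cn x 17 * (cn u 2 * cn y 24 + cn u 24 * cn y 2 + cn u 5 * cn y 25 + cn u 25 * cn y 5 +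
        cn u 8 * cn y 26 + cn u 26 * cn y 8) +
      cn y 17 * (cn u 2 * cn x 24 + cn u 24 * cn x 2 + cn u 5 * cn x 25 + cn u 25 * cn x 5 +
        cn u 8 * cn x 26 + cn u 26 * cn x 8) := by
  simp only [offW, List.forall_mem_cons, List.forall_mem_nil, and_true] at hu hx hy
  simp only [qb_num, monN, List.map_cons, List.map_nil, List.sum_cons, List.sum_nil, hu, hx, hy,
    Int.cast_one, neg_one_cast, mul_zero, zero_mul, add_zero, zero_add, one_mul, mul_one]
  ring

end CfsgLib.Chev.E62Five
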