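import Cfsg.Agent.Lib.Chev.E62Five.Cols
import Cfsg.Agent.Lib.Chev.E62Fi22.Hom

/-!
The hermitian pairing of the 27-dimensional representation kept by the twisted group of type E6 over
four elements, and lifts of its elements to linear maps keeping the cubic form and the pairing.
-/

set_option autoImplicit false
set_option maxRecDepth 100000
set_option linter.unusedSectionVars false

namespace CfsgLib.Chev.E62Five

open Cfsg.Lie Matrix CfsgLib.Chev CfsgLib.Chev.E6Form
open CfsgLib.Chev.E62Fi22
open CfsgLib.KnownB.Fi22Mult.Rep (Vc vx wm app eqL eqL_sound)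

/-- the coordinate paired with a given one -/
def hflip (i : ι) : ι := (Fin.rev i.1, i.2.2, i.2.1)

theorem flip_check : ∀ i : ι, E62Fi22.pos (hflip i) = flipN (E62Fi22.pos i) ∧ hflip (hflip i) = i := by decide +kernel

theorem hflip_hflip (i : ι) : hflip (hflip i) = i := (flip_check i).2

theorem pos_hflip (i : ι) : E62Fi22.pos (hflip i) = flipN (E62Fi22.pos i) := (flip_check i).1

variable {K : Type*} [Field K] [CharP K 2] {w : K}

theorem bitv_sq (b : Bool) : (bitv b : K) ^ 2 = bitv b := by cases b <;> simp [bitv]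

theorem dec_sq (hw : w * w = w + 1) (v : Vc) (p : ℕ) :
    dec w v p ^ 2 = bitv (v.1.testBit p ^^ v.2.testBit p) + bitv (v.2.testBit p) * w := by
  simp only [dec, bitv_xor, CharTwo.add_sq, mul_pow, bitv_sq]
  linear_combination (bitv (v.2.testBit p) : K) * hw

/-- the hermitian pairing -/
def Hf (u v : ι → K) : K := ∑ i, u i * v (hflip i) ^ 2

/-- the maps keeping the cubic form and the pairing -/
def Keep (g : GL ι K) : Prop := Isom g ∧ ∀ u v, Hf (ap g u) (ap g v) = Hf u v

theorem Keep.mul {g h : GL ι K} (hg : Keep g) (hh : Keep h) : Keep (g * h) :=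
  ⟨fun v => by rw [ap_mul, hg.1, hh.1], fun u v => by rw [ap_mul, ap_mul, hg.2, hh.2]⟩

theorem Keep.one : Keep (1 : GL ι K) := ⟨fun v => by rw [ap_one], fun u v => by rw [ap_one, ap_one]⟩

theorem Keep.inv {g : GL ι K} (hg : Keep g) : Keep g⁻¹ :=
  ⟨fun v => by rw [← hg.1 (ap g⁻¹ v), ap_ap_inv],
    fun u v => by rw [← hg.2 (ap g⁻¹ u) (ap g⁻¹ v), ap_ap_inv, ap_ap_inv]⟩

/-- the group of these maps -/
def keepGroup : Subgroup (GL ι K) where
  carrier := {g | Keep g}
  mul_mem' := Keep.mul
  one_mem' := Keep.one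
  inv_mem' := Keep.inv

theorem herm_entries (hw : w * w = w + 1) {M : List Vc} (h : hermB M = true) (i k : ι) :
    matOf w M (hflip k) i = matOf w M (hflip i) k ^ 2 := by
  have e := List.all_eq_true.1 (List.all_eq_true.1 h (E62Fi22.pos i) (List.mem_range.2 (pos_lt i))) (E62Fi22.pos k)
    (List.mem_range.2 (pos_lt k))
  simp only [Bool.and_eq_true, beq_iff_eq] at e
  show dec w (M.getD (E62Fi22.pos i) (0, 0)) (E62Fi22.pos (hflip k)) = dec w (M.getD (E62Fi22.pos k) (0, 0)) (E62Fi22.pos (hflip i)) ^ 2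
  rw [dec_sq hw, pos_hflip, pos_hflip, dec, e.1, e.2]

theorem Hf_of_entries (M : Matrix ι ι K) (he : ∀ i k, M (hflip k) i = M (hflip i) k ^ 2)
    (hsq : M * M = 1) (u v : ι → K) : Hf (M *ᵥ u) (M *ᵥ v) = Hf u v := by
  have hv : ∀ i, (M *ᵥ v) (hflip i) ^ 2 = ∑ l, M (hflip l) i * v l ^ 2 := fun i => by
    simp only [Matrix.mulVec, dotProduct]
    rw [CharTwo.sum_sq]
    exact Finset.sum_congr rfl fun l _ => by rw [mul_pow, ← he]
  calc Hf (M *ᵥ u) (M *ᵥ v) = ∑ i, ∑ l, ∑ j, u j * v l ^ 2 * (M (hflip l) i * M i j) := by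
        refine Finset.sum_congr rfl fun i _ => ?_
        rw [hv i, Matrix.mulVec, dotProduct, Finset.mul_sum]
        refine Finset.sum_congr rfl fun l _ => ?_
        rw [Finset.sum_mul]
        exact Finset.sum_congr rfl fun j _ => by ring
    _ = ∑ l, ∑ j, u j * v l ^ 2 * (M * M) (hflip l) j := by
        rw [Finset.sum_comm]
        refine Finset.sum_congr rfl fun l _ => ?_
        rw [Finset.sum_comm]
        refine Finset.sum_congr rfl fun j _ => ?_
        rw [Matrix.mul_apply, Finset.mul_sum]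
    _ = ∑ l, u (hflip l) * v l ^ 2 := by
        simp [hsq, Matrix.one_apply]
    _ = Hf u v := by
        refine Fintype.sum_equiv ⟨hflip, hflip, hflip_hflip, hflip_hflip⟩ _ _ fun l => ?_
        simp [hflip_hflip]

theorem mem_roots {l : ℕ × ℕ} (hl : wordOK [l] = true) : ∀ p ∈ expand l, p.1 ∈ roots := by
  intro p hp
  simp only [wordOK, Bool.and_eq_true, List.all_eq_true] at hl
  exact of_decide_eq_true (hl.2 p (by simpa using hp))

theorem isom_xE {r : ℕ} (hr : r < 72) (t : K) : Isom (xE r t : GL ι K) :=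
  isom_of_mem (EG_isom (range_coverE (F := K) ▸ ⟨chevE6.scGen K r t, lift_stX hr t⟩))

theorem letters_ok : (letters.all fun l => wordOK [l]) = true := by decide +kernel

/-- a twisted generator keeps the cubic form and the pairing -/
theorem keep_letter (hw : w * w = w + 1) {l : ℕ × ℕ} (hl : l ∈ letters) :
    E62Fi22.elemL w (expand l) ∈ keepGroup (K := K) := by
  have hr := mem_roots (List.all_eq_true.1 letters_ok l hl)
  have h := List.all_eq_true.1 letters_true l hl
  simp only [letterOK, Bool.and_eq_true] at h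
  refine ⟨?_, fun u v => ?_⟩
  · have hall : ∀ L : List (ℕ × ℕ), (∀ p ∈ L, p.1 ∈ roots) → Isom (E62Fi22.elemL w L : GL ι K) := by
      intro L hL
      induction L with
      | nil => intro v; simp [E62Fi22.elemL, ap_one]
      | cons p L ih =>
        intro v
        rw [show E62Fi22.elemL w (p :: L) = xE p.1 (E62Fi22.tval w p.2) * E62Fi22.elemL w L from List.prod_cons, ap_mul,
          isom_xE (roots_lt (hL p List.mem_cons_self)), ih fun q hq => hL q (List.mem_cons_of_mem _ hq)]
    exact hall _ hr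
  · show Hf ((E62Fi22.elemL w (expand l) : Matrix ι ι K) *ᵥ u) ((E62Fi22.elemL w (expand l) : Matrix ι ι K) *ᵥ v) = _
    rw [elemL_val hw _ hr]
    refine Hf_of_entries _ (herm_entries hw h.1) ?_ u v
    rw [← elemL_val hw _ hr, ← Units.val_mul, show E62Fi22.elemL w (expand l) * E62Fi22.elemL w (expand l) =
      E62Fi22.elemL w (expand l ++ expand l) by simp [E62Fi22.elemL, List.map_append, List.prod_append],
      elemL_val hw _ (by simpa [or_imp, forall_and] using hr), eqL_sound h.2, matOf_id]

theorem keep_word (hw : w * w = w + 1) {W : List (ℕ × ℕ)} (hW : wordOK W = true) :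
    E62Fi22.elemL w (W.flatMap expand) ∈ keepGroup (K := K) := by
  induction W with
  | nil => exact one_mem _
  | cons l W ih =>
    simp only [wordOK, List.all_cons, List.flatMap_cons, List.all_append, Bool.and_eq_true] at hW
    simp only [wordOK, Bool.and_eq_true] at ih
    rw [List.flatMap_cons, E62Fi22.elemL, List.map_append, List.prod_append]
    refine mul_mem (keep_letter hw ?_) (ih ⟨hW.1.2, hW.2.2⟩)
    obtain ⟨⟨⟨⟨h1, h2⟩, h3⟩, h4⟩, -⟩ := hW.1
    obtain ⟨j, c⟩ := l
    simp only [Nat.blt_eq, Bool.or_eq_true, Nat.ble_eq, Nat.beq_eq_true_eq] at h1 h2 h3 h4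
    interval_cases j <;> interval_cases c <;> simp_all <;> decide

/-! ### lifts -/

variable [Fintype K]

theorem four_cases (hK : Fintype.card K = 4) (hw : w * w = w + 1) (t : K) :
    t = 0 ∨ t = 1 ∨ t = w ∨ t = w + 1 := by
  rcases eq_or_ne t 0 with h | h
  · exact Or.inl h
  refine Or.inr ?_
  have h3 := FiniteField.pow_card_sub_one_eq_one t h
  rw [hK] at h3
  have : (t - 1) * ((t - w) * (t - (w + 1))) = 0 := by
    linear_combination h3 + (t - 1) * hw - t * (t - 1) * CharTwo.two_eq_zero (R := K) - w * t * (t - 1) *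
      CharTwo.two_eq_zero (R := K) + (t - 1) * w * CharTwo.two_eq_zero (R := K)
  rcases mul_eq_zero.1 this with h | h
  · exact Or.inl (sub_eq_zero.1 h)
  · rcases mul_eq_zero.1 h with h | h
    · exact Or.inr (Or.inl (sub_eq_zero.1 h))
    · exact Or.inr (Or.inr (sub_eq_zero.1 h))

theorem tval_codes (w : K) : E62Fi22.tval w 0 = 0 ∧ E62Fi22.tval w 1 = 1 ∧ E62Fi22.tval w 2 = w ∧ E62Fi22.tval w 3 = w + 1 := by
  simp [E62Fi22.tval, bitv, show Nat.testBit 1 1 = false by decide, show Nat.testBit 2 0 = false by decide,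
    show Nat.testBit 2 1 = true by decide, show Nat.testBit 3 0 = true by decide,
    show Nat.testBit 3 1 = true by decide, add_comm]

theorem exists_code (hK : Fintype.card K = 4) (hw : w * w = w + 1) (t : K) :
    ∃ c < 4, E62Fi22.tval w c = t ∧ E62Fi22.tval w (cjCode c) = t ^ 2 := by
  obtain ⟨t0, t1, t2, t3⟩ := tval_codes w
  rcases four_cases hK hw t with rfl | rfl | rfl | rfl
  · exact ⟨0, by norm_num, t0, by rw [show cjCode 0 = 0 from rfl, t0]; simp⟩
  · exact ⟨1, by norm_num, t1, by rw [show cjCode 1 = 1 from rfl, t1, one_pow]⟩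
  · exact ⟨2, by norm_num, t2, by rw [show cjCode 2 = 3 from rfl, t3, pow_two, hw]⟩
  · refine ⟨3, by norm_num, t3, ?_⟩
    rw [show cjCode 3 = 2 from rfl, t2, CharTwo.add_sq, pow_two, hw, one_pow, add_assoc,
      CharTwo.add_self_eq_zero, add_zero]

/-- every element of the twisted group lifts to a map keeping the form and the pairing -/
theorem exists_lift (hK : Fintype.card K = 4) (hw : w * w = w + 1) (R : E62Fi22.Rep K w)
    {g : GL chevE6.Idx K} (hg : g ∈ twistedE6 K 2) :
    ∃ h : g ∈ chevE6.group K, ∃ M ∈ keepGroup (K := K), R.χ ⟨g, h⟩ = E62Fi22.pr M := by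
  rw [twistedE6, genSubgroup_eq stdE6.good] at hg
  induction hg using Subgroup.closure_induction with
  | one => exact ⟨one_mem _, 1, one_mem _, by rw [map_one]; exact map_one _⟩
  | mul x y _ _ hx hy =>
    obtain ⟨hx, M, hM, ex⟩ := hx
    obtain ⟨hy, N, hN, ey⟩ := hy
    refine ⟨mul_mem hx hy, M * N, mul_mem hM hN, ?_⟩
    rw [map_mul, ← ex, ← ey, ← map_mul]
    rfl
  | inv x _ hx =>
    obtain ⟨hx, M, hM, ex⟩ := hx
    refine ⟨inv_mem hx, M⁻¹, inv_mem hM, ?_⟩
    rw [map_inv, ← ex, ← map_inv]
    rfl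
  | mem y hy =>
    obtain ⟨u, hu, rfl⟩ := hy
    -- a single letter or the empty word
    have key : ∀ L : List (ℕ × ℕ), (∀ p ∈ L, p.1 ∈ roots) → E62Fi22.elemL w L ∈ keepGroup (K := K) →
        ∃ h : (L.map fun p => xG stdE6.good p.1 (E62Fi22.tval w p.2)).prod ∈ chevE6.group K,
          ∃ M ∈ keepGroup (K := K), R.χ ⟨_, h⟩ = E62Fi22.pr M := by
      intro L hL hk
      refine ⟨Subgroup.list_prod_mem _ fun z hz => ?_, _, hk, ?_⟩
      · obtain ⟨p, -, rfl⟩ := List.mem_map.1 hz
        exact xG_mem_group stdE6.good _ _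
      · have e : ∀ L : List (ℕ × ℕ), (∀ p ∈ L, p.1 ∈ roots) →
            ((R.θ (L.map fun p => chevE6.scGen K p.1 (E62Fi22.tval w p.2)).prod : ↥(chevE6.group K)) :
              GL chevE6.Idx K) = (L.map fun p => xG stdE6.good p.1 (E62Fi22.tval w p.2)).prod ∧
            coverE (L.map fun p => chevE6.scGen K p.1 (E62Fi22.tval w p.2)).prod = E62Fi22.elemL w L := by
          intro L hL
          rw [map_list_prod, map_list_prod, SubmonoidClass.coe_list_prod, List.map_map, List.map_map,
            List.map_map, E62Fi22.elemL]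
          exact ⟨congrArg List.prod (List.map_congr_left fun p hp =>
              (eq_xG_iff stdE6.good).1 (R.gen _ _ (roots_lt (hL p hp)))),
            congrArg List.prod (List.map_congr_left fun p hp => lift_stX (roots_lt (hL p hp)) _)⟩
        rw [← (e L hL).2, ← R.comp]
        exact congrArg R.χ (Subtype.ext (e L hL).1.symm)
    rcases hu with ⟨t, ht, r, hr, rfl⟩ | ⟨t, rs, hrs, rfl⟩
    · obtain ⟨c, hc, hct, hct2⟩ := exists_code hK hw t
      rw [ht] at hct2
      rcases eq_or_ne c 0 with rfl | hc0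
      · subst hct
        simp only [List.map_cons, List.map_nil, List.prod_cons, List.prod_nil, mul_one,
          (tval_codes w).1, xG_zero]
        exact ⟨one_mem _, 1, one_mem _, by rw [map_one]; exact map_one _⟩
      obtain rfl : c = 1 := by
        interval_cases c
        · exact absurd rfl hc0
        · rfl
        · exfalso
          rw [show cjCode 2 = 3 from rfl, (tval_codes w).2.2.2, ← hct, (tval_codes w).2.2.1] at hct2
          simp at hct2
        · exfalso
          rw [show cjCode 3 = 2 from rfl, (tval_codes w).2.2.1, ← hct, (tval_codes w).2.2.2] at hct2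
          simp at hct2
      subst hct
      simp only [List.mem_cons, List.not_mem_nil, or_false, e6p2, e6m2, e6p4, e6m4] at hr
      obtain ⟨j, hj, hjr⟩ : ∃ j < 4, expand (j, 1) = [(r, 1)] := by
        rcases hr with rfl | rfl | rfl | rfl
        exacts [⟨0, by norm_num, rfl⟩, ⟨2, by norm_num, rfl⟩, ⟨1, by norm_num, rfl⟩,
          ⟨3, by norm_num, rfl⟩]
      have hl : (j, 1) ∈ letters := by interval_cases j <;> decide
      simpa [hjr] using key _ (mem_roots (List.all_eq_true.1 letters_ok _ hl)) (keep_letter hw hl)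
    · obtain ⟨c, hc, hct, hct2⟩ := exists_code hK hw t
      subst hct
      rcases eq_or_ne c 0 with rfl | hc0
      · simp only [List.map_cons, List.map_nil, List.prod_cons, List.prod_nil, mul_one,
          (tval_codes w).1, ne_eq, OfNat.ofNat_ne_zero, not_false_eq_true, zero_pow, xG_zero]
        exact ⟨one_mem _, 1, one_mem _, by rw [map_one]; exact map_one _⟩
      simp only [List.mem_cons, List.not_mem_nil, or_false, e6p1, e6p6, e6m1, e6m6, e6p3, e6p5, e6m3,
        e6m5] at hrs
      obtain ⟨j, hj4, hj8, hjr⟩ : ∃ j, 4 ≤ j ∧ j < 8 ∧ expand (j, c) = [(rs.1, c), (rs.2, cjCode c)] := by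
        rcases hrs with rfl | rfl | rfl | rfl
        exacts [⟨4, le_rfl, by norm_num, rfl⟩, ⟨5, by norm_num, by norm_num, rfl⟩,
          ⟨6, by norm_num, by norm_num, rfl⟩, ⟨7, by norm_num, by norm_num, rfl⟩]
      have hl : (j, c) ∈ letters := by interval_cases j <;> interval_cases c <;> first | omega | decide
      simpa [hjr, hct2] using key _ (mem_roots (List.all_eq_true.1 letters_ok _ hl)) (keep_letter hw hl)

end CfsgLib.Chev.E62Five
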