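import Cfsg.Agent.Lib.Chev.E62Five.Blocks

/-!
A map keeping the form and the pairing, commuting with the element of order five and fixing its seven
fixed coordinates is a power of the element.
-/

set_option autoImplicit false
set_option maxRecDepth 100000
set_option linter.unusedSectionVars false
set_option linter.unusedSimpArgs false

namespace CfsgLib.Chev.E62Five

open Matrix CfsgLib.Chev CfsgLib.Chev.E6Form

variable {K : Type*} [Field K] [CharP K 2] [Fintype K] {w : K}

/-- fixes all seven coordinates -/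
structure All7 (w : K) (g : GL ι K) : Prop extends Five5 w g where
  f8 : ap g (ev K 8) = ev K 8
  f26 : ap g (ev K 26) = ev K 26

variable {g : GL ι K}

/-- the relations between the first columns of two blocks -/
theorem pair_rel (hK : Fintype.card K = 4) (hw : w * w = w + 1) (hg : Cen w g) {s a b c d : ℕ}
    (hs : ap g (ev K s) = ev K s)
    (hform : ∀ x y : ι → K, (∀ j < 27, j ≠ a → j ≠ b → cn x j = 0) → (∀ j < 27, j ≠ c → j ≠ d → cn y j = 0) →
      QB (ev K s) x y = cn x a * cn y d + cn x b * cn y c)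
    (h1 : (a, b) ∈ [(0, 1), (3, 4), (6, 7)]) (h2 : (c, d) ∈ [(0, 1), (3, 4), (6, 7)])
    (ga : ∀ j < 27, j ≠ a → j ≠ b → cn (ap g (ev K a)) j = 0)
    (gb : ∀ j < 27, j ≠ a → j ≠ b → cn (ap g (ev K b)) j = 0)
    (gc : ∀ j < 27, j ≠ c → j ≠ d → cn (ap g (ev K c)) j = 0)
    (gd : ∀ j < 27, j ≠ c → j ≠ d → cn (ap g (ev K d)) j = 0) :
    let p := cn (ap g (ev K a)) a
    let q := cn (ap g (ev K a)) b
    let r := cn (ap g (ev K c)) c
    let t := cn (ap g (ev K c)) d
    p * t + q * r = 0 ∧ p * (r + t) + q * ((w + 1) * t) = 1 ∧ (w + 1) * q * t + (p + q) * r = 1 := by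
  intro p q r t
  have hd : ∀ x ∈ [(0, 1), (3, 4), (6, 7)], x.1 < 27 ∧ x.2 < 27 ∧ (x.1 : ℕ) ≠ x.2 := by decide
  obtain ⟨ha, hb, hab⟩ := hd _ h1
  obtain ⟨hc, hd', hcd⟩ := hd _ h2
  simp only at ha hb hab hc hd' hcd
  have hev : ∀ {u v : ℕ}, u < 27 → v < 27 → ∀ {z : ℕ}, (z = u ∨ z = v) → z < 27 →
      ∀ j < 27, j ≠ u → j ≠ v → cn (ev K z) j = 0 := by
    intro u v _ _ z hz hz27 j hj n1 n2
    rw [cn_ev hz27 hj, if_neg]
    rintro rfl
    rcases hz with rfl | rfl
    · exact n1 rfl
    · exact n2 rfl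
  obtain ⟨sb1, sb2⟩ := hg.second hw h1 ga
  obtain ⟨sd1, sd2⟩ := hg.second hw h2 gc
  have e00 := QB_inv (three_le hK) hg.keep.1 (ev K s) (ev K a) (ev K c)
  have e01 := QB_inv (three_le hK) hg.keep.1 (ev K s) (ev K a) (ev K d)
  have e10 := QB_inv (three_le hK) hg.keep.1 (ev K s) (ev K b) (ev K c)
  rw [hs, hform _ _ ga gc, hform _ _ (hev ha hb (.inl rfl) ha) (hev hc hd' (.inl rfl) hc)] at e00
  rw [hs, hform _ _ ga gd, hform _ _ (hev ha hb (.inl rfl) ha) (hev hc hd' (.inr rfl) hd')] at e01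
  rw [hs, hform _ _ gb gc, hform _ _ (hev ha hb (.inr rfl) hb) (hev hc hd' (.inl rfl) hc)] at e10
  simp only [cn_ev ha ha, cn_ev hb hb, cn_ev ha hb, cn_ev hb ha, cn_ev hc hc, cn_ev hd' hd', cn_ev hc hd',
    cn_ev hd' hc, if_true, if_neg hab, if_neg (Ne.symm hab), if_neg hcd, if_neg (Ne.symm hcd), mul_zero,
    zero_mul, add_zero, zero_add, mul_one, sd1, sd2, sb1, sb2] at e00 e01 e10
  exact ⟨e00, e01, e10⟩

/-- the first column of the first block has norm one -/
theorem All7.norm_one (hK : Fintype.card K = 4) (hw : w * w = w + 1) (hg : All7 w g) :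
    cn (ap g (ev K 0)) 0 ^ 2 + cn (ap g (ev K 0)) 0 * cn (ap g (ev K 0)) 1 +
      (w + 1) * cn (ap g (ev K 0)) 1 ^ 2 = 1 := by
  have h := hg.toFive5
  have b0 := h.block0 hK hw; have b1 := h.block1 hK hw; have b3 := h.block3 hK hw
  have b4 := h.block4 hK hw; have b6 := h.block6 hK hw; have b7 := h.block7 hK hw
  obtain ⟨a1, a2, a3⟩ := pair_rel hK hw h.cen (s := 8) hg.f8 (fun x y hx hy => by
    rw [qb8]; simp (disch := omega) only [hx, hy, mul_zero, zero_mul, add_zero]; try ring)
    (by decide) (by decide) b0 b1 b3 b4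
  obtain ⟨c1, c2, c3⟩ := pair_rel hK hw h.cen (s := 5) hg.f5 (fun x y hx hy => by
    rw [qb5]; simp (disch := omega) only [hx, hy, mul_zero, zero_mul, add_zero]; try ring)
    (by decide) (by decide) b0 b1 b6 b7
  obtain ⟨d1, d2, d3⟩ := pair_rel hK hw h.cen (s := 2) hg.f2 (fun x y hx hy => by
    rw [qb2]; simp (disch := omega) only [hx, hy, mul_zero, zero_mul, add_zero]; try ring)
    (by decide) (by decide) b3 b4 b6 b7
  generalize cn (ap g (ev K 0)) 0 = p at a1 a2 a3 c1 c2 c3 ⊢
  generalize cn (ap g (ev K 0)) 1 = q at a1 a2 a3 c1 c2 c3 ⊢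
  generalize cn (ap g (ev K 3)) 3 = r at a1 a2 a3 d1 d2 d3
  generalize cn (ap g (ev K 3)) 4 = t at a1 a2 a3 d1 d2 d3
  generalize cn (ap g (ev K 6)) 6 = u at c1 c2 c3 d1 d2 d3
  generalize cn (ap g (ev K 6)) 7 = v at c1 c2 c3 d1 d2 d3
  have two := CharTwo.two_eq_zero (R := K)
  set N := p ^ 2 + p * q + (w + 1) * q ^ 2
  set M := r ^ 2 + r * t + (w + 1) * t ^ 2
  have r1 : N * r = p := by
    linear_combination p * a2 + (p + (w + 1) * q) * a1 - (p ^ 2 * t + (w + 1) * p * q * t) * two
  have r2 : N * t = q := by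
    linear_combination q * a2 + p * a1 - (p * q * r) * two
  have u1 : N * u = p := by
    linear_combination p * c2 + (p + (w + 1) * q) * c1 - (p ^ 2 * v + (w + 1) * p * q * v) * two
  have v1 : N * v = q := by
    linear_combination q * c2 + p * c1 - (p * q * u) * two
  have m1 : M * u = r := by
    linear_combination r * d2 + (r + (w + 1) * t) * d1 - (r ^ 2 * v + (w + 1) * r * t * v) * two
  have m2 : M * v = t := by
    linear_combination t * d2 + r * d1 - (r * t * u) * two
  have hN : N ≠ 0 := by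
    intro h0
    rw [h0, zero_mul] at r1 r2
    rw [← r1, ← r2] at a2
    simp at a2
  have hru : r = u := mul_left_cancel₀ hN (r1.trans u1.symm)
  have htv : t = v := mul_left_cancel₀ hN (r2.trans v1.symm)
  subst hru htv
  have hM : M = 1 := by
    by_cases hr : r = 0
    · by_cases ht : t = 0
      · rw [hr, ht] at a2; simp at a2
      · exact mul_right_cancel₀ ht (by rw [m2, one_mul])
    · exact mul_right_cancel₀ hr (by rw [m1, one_mul])
  have key : N ^ 2 * M = N := by
    show N ^ 2 * (r ^ 2 + r * t + (w + 1) * t ^ 2) = p ^ 2 + p * q + (w + 1) * q ^ 2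
    rw [← r1, ← r2]
    ring
  rw [hM, mul_one, pow_two] at key
  exact mul_left_cancel₀ hN (by rw [key, mul_one])

/-- fixing the first basis vector too is being trivial -/
theorem All7.eq_one (hK : Fintype.card K = 4) (hw : w * w = w + 1) (hg : All7 w g)
    (h0 : ap g (ev K 0) = ev K 0) : g = 1 := by
  have h := hg.toFive5
  have f1 : ap g (ev K 1) = ev K 1 := by
    obtain ⟨e1, e2⟩ := h.cen.second hw (a := 0) (b := 1) (by decide) (h.block0 hK hw)
    rw [h0] at e1 e2
    simp (disch := decide) only [cn_ev, Nat.reduceEqDiff, if_true, if_false, mul_zero, add_zero] at e1 e2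
    rw [two_coords (by norm_num) (by norm_num) (by norm_num) (h.block1 hK hw), e1, e2, zero_smul, zero_add,
      one_smul]
  -- a fixed pair of vectors reads off a coordinate
  have read : ∀ {s k : ℕ}, ap g (ev K s) = ev K s → ap g (ev K k) = ev K k → ∀ x,
      QB (ev K s) (ev K k) (ap g x) = QB (ev K s) (ev K k) x := fun hs hk x => by
    conv_lhs => rw [← hs, ← hk]
    rw [QB_inv (three_le hK) h.cen.keep.1]
  have co : ∀ {s k j : ℕ}, ap g (ev K s) = ev K s → ap g (ev K k) = ev K k →
      (∀ y : ι → K, QB (ev K s) (ev K k) y = cn y j) → ∀ x, cn (ap g x) j = cn x j := fun hs hk hf x => by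
    rw [← hf, read hs hk, hf]
  have c4 := co (j := 4) hg.f8 h0 fun y => by rw [qb8]; simp (disch := decide) [cn_ev]
  have c3 := co (j := 3) hg.f8 f1 fun y => by rw [qb8]; simp (disch := decide) [cn_ev]
  have c7 := co (j := 7) hg.f5 h0 fun y => by rw [qb5]; simp (disch := decide) [cn_ev]
  have c6 := co (j := 6) hg.f5 f1 fun y => by rw [qb5]; simp (disch := decide) [cn_ev]
  have c11 := co (j := 11) h.f24 h0 fun y => by rw [qb24]; simp (disch := decide) [cn_ev]
  have c14 := co (j := 14) h.f24 f1 fun y => by rw [qb24]; simp (disch := decide) [cn_ev]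
  have fix : ∀ {k a b : ℕ}, k = a ∨ k = b → a < 27 → b < 27 → a ≠ b →
      (∀ j < 27, j ≠ a → j ≠ b → cn (ap g (ev K k)) j = 0) →
      (∀ x, cn (ap g x) a = cn x a) → (∀ x, cn (ap g x) b = cn x b) → ap g (ev K k) = ev K k := by
    intro k a b hk ha hb hab hbl ca cb
    rw [two_coords ha hb hab hbl, ca, cb]
    symm
    refine two_coords ha hb hab fun j hj n1 n2 => ?_
    rw [cn_ev (by rcases hk with rfl | rfl <;> assumption) hj, if_neg]
    rintro rfl
    rcases hk with rfl | rfl
    · exact n1 rfl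
    · exact n2 rfl
  have f3 := fix (.inl rfl) (by norm_num) (by norm_num) (by norm_num) (h.block3 hK hw) c3 c4
  have f4 := fix (.inr rfl) (by norm_num) (by norm_num) (by norm_num) (h.block4 hK hw) c3 c4
  have f6 := fix (.inl rfl) (by norm_num) (by norm_num) (by norm_num) (h.block6 hK hw) c6 c7
  have f7 := fix (.inr rfl) (by norm_num) (by norm_num) (by norm_num) (h.block7 hK hw) c6 c7
  have f11 := fix (.inl rfl) (by norm_num) (by norm_num) (by norm_num) (h.block11 hK hw) c11 c14
  have f14 := fix (.inr rfl) (by norm_num) (by norm_num) (by norm_num) (h.block14 hK hw) c11 c14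
  have c0 := co (j := 0) hg.f8 f4 fun y => by rw [qb8]; simp (disch := decide) [cn_ev]
  have c1 := co (j := 1) hg.f8 f3 fun y => by rw [qb8]; simp (disch := decide) [cn_ev]
  have hfl : ∀ {k : ℕ}, k < 27 → ap g (ev K k) = ev K k → ∀ x, cn (ap g x) (flipN k) = cn x (flipN k) := by
    intro k hk hf x
    rw [← hf_right hk, ← hf_right hk x]
    conv_lhs => rw [← hf]
    exact h.cen.keep.2 x _
  have c18 := hfl (k := 0) (by norm_num) h0; have c21 := hfl (k := 1) (by norm_num) f1
  have c19 := hfl (k := 3) (by norm_num) f3; have c22 := hfl (k := 4) (by norm_num) f4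
  have c20 := hfl (k := 6) (by norm_num) f6; have c23 := hfl (k := 7) (by norm_num) f7
  have c15 := hfl (k := 11) (by norm_num) f11; have c16 := hfl (k := 14) (by norm_num) f14
  have c2 := hfl (k := 24) (by norm_num) h.f24; have c24 := hfl (k := 2) (by norm_num) h.f2
  have c5 := hfl (k := 25) (by norm_num) h.f25; have c25 := hfl (k := 5) (by norm_num) h.f5
  have c8 := hfl (k := 26) (by norm_num) hg.f26; have c26 := hfl (k := 8) (by norm_num) hg.f8
  have c17 := hfl (k := 17) (by norm_num) h.f17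
  simp only [flipN, Nat.reduceSub, Nat.reduceDiv, Nat.reduceMod, Nat.reduceMul, Nat.reduceAdd]
    at c18 c21 c19 c22 c20 c23 c15 c16 c2 c24 c5 c25 c8 c26 c17
  have most : ∀ x, ∀ j < 27, j ≠ 9 → j ≠ 10 → j ≠ 12 → j ≠ 13 → cn (ap g x) j = cn x j := by
    intro x j hj n1 n2 n3 n4
    interval_cases j
    all_goals first
      | exact absurd rfl n1 | exact absurd rfl n2 | exact absurd rfl n3 | exact absurd rfl n4
      | simp only [c0, c1, c2, c3, c4, c5, c6, c7, c8, c11, c14, c15, c16, c17, c18, c19, c20, c21, c22, c23,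
          c24, c25, c26]
  have fixk : ∀ k ∈ [15, 16], ap g (ev K k) = ev K k := by
    intro k hk
    have hk27 : k < 27 := by simp at hk; omega
    obtain ⟨z9, z10, z12, z13⟩ := h.kill17 hK (x := ev K k) fun y => by
      rw [qb17]
      simp only [List.mem_cons, List.not_mem_nil, or_false] at hk
      rcases hk with rfl | rfl <;> simp (disch := decide) [cn_ev]
    refine vec_ext fun j hj => ?_
    by_cases hjs : j = 9 ∨ j = 10 ∨ j = 12 ∨ j = 13
    · have hne : k ≠ j := by simp at hk; omega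
      rw [cn_ev hk27 hj, if_neg hne]
      rcases hjs with rfl | rfl | rfl | rfl <;> assumption
    · simp only [not_or] at hjs
      exact most _ j hj hjs.1 hjs.2.1 hjs.2.2.1 hjs.2.2.2
  have f15 := fixk 15 (by simp); have f16 := fixk 16 (by simp)
  have c12 := co (j := 12) f11 f16 fun y => by rw [qb11]; simp (disch := decide) [cn_ev]
  have c13 := co (j := 13) f11 f15 fun y => by rw [qb11]; simp (disch := decide) [cn_ev]
  have c9 := co (j := 9) f14 f16 fun y => by rw [qb14]; simp (disch := decide) [cn_ev]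
  have c10 := co (j := 10) f14 f15 fun y => by rw [qb14]; simp (disch := decide) [cn_ev]
  refine gl_ext fun x => ?_
  rw [ap_one]
  refine vec_ext fun j hj => ?_
  by_cases hjs : j = 9 ∨ j = 10 ∨ j = 12 ∨ j = 13
  · rcases hjs with rfl | rfl | rfl | rfl
    exacts [c9 x, c10 x, c12 x, c13 x]
  · simp only [not_or] at hjs
    exact most x j hj hjs.1 hjs.2.1 hjs.2.2.1 hjs.2.2.2

end CfsgLib.Chev.E62Five
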