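import Cfsg.Agent.Lib.Chev.E62Five.Elems
import Cfsg.Agent.Lib.Pres.ShortAlt.Carm
import Mathlib.GroupTheory.SpecificGroups.Alternating.Simple

/-!
The twisted group of type E6 over four elements has one class of elements of order five, with centralizer
the product of a cyclic group of order five and the alternating group of degree eight.
-/

set_option autoImplicit false
set_option maxRecDepth 100000
set_option linter.unusedSectionVars false

namespace CfsgLib.Chev.E62Five

open Cfsg.Lie Matrix CfsgLib.Chev CfsgLib.Chev.E6Form CfsgLib.Pres.ShortAlt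
open CfsgLib.Chev.E62Fi22 (scRows)

section group

variable {G : Type*} [Group G]

/-- the product of powers -/
def fivePair (a b : G) (e : ℕ × ℕ) : G := a ^ e.1 * b ^ e.2

theorem five_mul {a b : G} (hab : Commute a b) (e e' : ℕ × ℕ) :
    fivePair a b e * fivePair a b e' = fivePair a b (e.1 + e'.1, e.2 + e'.2) := by
  rw [fivePair, fivePair, fivePair, pow_add, pow_add, mul_assoc, ← mul_assoc (b ^ e.2),
    ((hab.pow_pow e'.1 e.2).symm).eq, mul_assoc, ← mul_assoc, mul_assoc]

theorem five_mod {a b : G} (ha : a ^ 5 = 1) (hb : b ^ 5 = 1) (i j : ℕ) :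
    fivePair a b (i, j) = fivePair a b (i % 5, j % 5) := by
  rw [fivePair, fivePair, pow_mod_self ha i, pow_mod_self hb j]
where
  pow_mod_self {x : G} (h : x ^ 5 = 1) (n : ℕ) : x ^ n = x ^ (n % 5) := by
    conv_lhs => rw [← Nat.mod_add_div n 5, pow_add, pow_mul, h, one_pow, mul_one]

/-- the image of an exponent pair under a linear map -/
def moveE (m : (ℕ × ℕ) × (ℕ × ℕ)) (e : ℕ × ℕ) : ℕ × ℕ :=
  ((e.1 * m.1.1 + e.2 * m.2.1) % 5, (e.1 * m.1.2 + e.2 * m.2.2) % 5)

/-- the exponent pairs reached from two starting ones -/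
def reached : ℕ → List (ℕ × ℕ)
  | 0 => [(1, 0), (1, 1)]
  | n + 1 => (reached n ++ (reached n).flatMap fun e => images.map fun m => moveE m e).dedup

theorem reached_table : ((List.range 5).all fun i => (List.range 5).all fun j =>
    (Nat.beq i 0 && Nat.beq j 0) || (reached 8).contains (i, j)) = true := by decide +kernel

theorem reached_all (i : ℕ) (hi : i < 5) (j : ℕ) (hj : j < 5) (h : (i, j) ≠ (0, 0)) :
    (i, j) ∈ reached 8 := by
  have := List.all_eq_true.1 (List.all_eq_true.1 reached_table i (List.mem_range.2 hi)) j (List.mem_range.2 hj)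
  simp only [Bool.or_eq_true, Bool.and_eq_true, Nat.beq_eq_true_eq, List.contains_iff_mem] at this
  exact this.resolve_left fun e => h (by rw [Nat.eq_of_beq_eq_true e.1, Nat.eq_of_beq_eq_true e.2])

theorem conj_reached {a b : G} (ha : a ^ 5 = 1) (hb : b ^ 5 = 1) (hab : Commute a b) (n : ℕ → G)
    (h11 : IsConj a (a * b))
    (hn : ∀ k < 3, n k * a * (n k)⁻¹ = fivePair a b (images.getD k ((0, 0), (0, 0))).1 ∧
      n k * b * (n k)⁻¹ = fivePair a b (images.getD k ((0, 0), (0, 0))).2) :
    ∀ t, ∀ e ∈ reached t, IsConj a (fivePair a b e) := by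
  intro t
  induction t with
  | zero =>
    intro e he
    simp only [reached, List.mem_cons, List.not_mem_nil, or_false] at he
    rcases he with rfl | rfl
    · simpa [fivePair] using IsConj.refl a
    · simpa [fivePair] using h11
  | succ t ih =>
    intro e he
    rw [reached, List.mem_dedup, List.mem_append, List.mem_flatMap] at he
    rcases he with he | ⟨e', he', hmap⟩
    · exact ih e he
    obtain ⟨m, hm, rfl⟩ := List.mem_map.1 hmap
    obtain ⟨k, hk, rfl⟩ := List.getElem_of_mem hm
    have hk3 : k < 3 := hk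
    obtain ⟨h1, h2⟩ := hn k hk3
    rw [List.getD_eq_getElem?_getD, List.getElem?_eq_getElem hk, Option.getD_some] at h1 h2
    refine (ih e' he').trans (isConj_iff.2 ⟨n k, ?_⟩)
    rw [fivePair, show n k * (a ^ e'.1 * b ^ e'.2) * (n k)⁻¹ =
      (n k * a ^ e'.1 * (n k)⁻¹) * (n k * b ^ e'.2 * (n k)⁻¹) by group, ← conj_pow, ← conj_pow, h1, h2]
    have hp : ∀ (p : ℕ × ℕ) (i : ℕ), fivePair a b p ^ i = fivePair a b (i * p.1, i * p.2) := by
      intro p i
      rw [fivePair, fivePair, (hab.pow_pow p.1 p.2).mul_pow, ← pow_mul, ← pow_mul, mul_comm p.1, mul_comm p.2]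
    rw [hp, hp, five_mul hab, moveE]
    exact five_mod ha hb _ _

end group

variable {K : Type*} [Field K] [CharP K 2] [Fintype K] {w : K}

theorem orderFive_a (hw : w * w = w + 1) (R : E62Fi22.Rep K w) (P : Pts R) : orderOf (P.x 0) = 5 := by
  haveI : Fact (Nat.Prime 5) := ⟨by norm_num⟩
  have hrel := P.rel (List.replicate 5 0, []) (by decide)
  refine orderOf_eq_prime (by simpa [pow_succ, mul_assoc] using hrel) fun h => ?_
  have h1 := P.val 0 (by norm_num)
  rw [h, map_one] at h1
  have hc := Subgroup.mem_center_iff.1 (E62Fi22.pr_eq_one.1 h1.symm)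
  obtain ⟨d, hd⟩ : ∃ d : K, (elW w 0 : Matrix ι ι K) = d • 1 :=
    E62Fi22.scalar_of_commute hw fun k _ _ => by rw [← Units.val_mul, ← hc, Units.val_mul]
  have hA : ap (elW w 0) (ev K 0) = ev K 0 + w • ev K 1 := (elA_pair hw (a := 0) (b := 1) (by decide)).1
  have := congrArg (fun v => cn v 1) hA
  simp only [cn_add, cn_smul, cn_ev (show 0 < 27 by norm_num) (show 1 < 27 by norm_num),
    cn_ev (show 1 < 27 by norm_num) (show 1 < 27 by norm_num)] at this
  rw [show ap (elW w 0) (ev K 0) = d • ev K 0 by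
    show (elW w 0 : Matrix ι ι K) *ᵥ _ = _
    rw [hd, Matrix.smul_mulVec, Matrix.one_mulVec], cn_smul,
    cn_ev (show 0 < 27 by norm_num) (show 1 < 27 by norm_num)] at this
  simp at this
  rw [← this] at hw
  simp at hw

theorem scalar_keep {d : K} (hd : d ^ 3 = 1) {z : GL ι K} (hz : (z : Matrix ι ι K) = d • 1) : Keep z := by
  have e : ∀ v, ap z v = d • v := fun v => by
    show (z : Matrix ι ι K) *ᵥ v = _
    rw [hz, Matrix.smul_mulVec, Matrix.one_mulVec]
  refine ⟨fun v => ?_, fun u v => ?_⟩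
  · rw [e]
    show TL mon (d • v) = TL mon v
    rw [E62Fi22.TL_smul, hd, one_mul]
  · rw [e, e, Hf, Hf]
    refine Finset.sum_congr rfl fun i _ => ?_
    simp only [Pi.smul_apply, smul_eq_mul]
    linear_combination u i * v (hflip i) ^ 2 * hd

theorem cube_one (hK : Fintype.card K = 4) {d : K} (hd : d ≠ 0) : d ^ 3 = 1 := by
  have := FiniteField.pow_card_sub_one_eq_one d hd
  rwa [hK] at this

/-- the bound on the centralizer -/
theorem card_centralizer_le (hK : Fintype.card K = 4) (hw : w * w = w + 1) (R : E62Fi22.Rep K w) (P : Pts R) :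
    Nat.card (Subgroup.centralizer ({P.x 0} : Set ↥(twistedE6 K 2))) ≤ 100800 := by
  classical
  refine le_trans ?_ (card_stab hK hw)
  have key : ∀ c : Subgroup.centralizer ({P.x 0} : Set ↥(twistedE6 K 2)),
      ∃ N ∈ stab w 0, chiT R c.1 = E62Fi22.pr N := by
    rintro ⟨c, hc⟩
    obtain ⟨h, M, hM, hval⟩ := exists_lift hK hw R c.2
    have hcM : chiT R c = E62Fi22.pr M := hval
    have hcomm := congrArg (chiT R) (Subgroup.mem_centralizer_singleton_iff.1 hc)
    rw [map_mul, map_mul, hcM, P.val 0 (by norm_num), ← map_mul, ← map_mul] at hcomm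
    have hcomm' : E62Fi22.pr (M * elA w) = E62Fi22.pr (elA w * M) := hcomm
    set z := (elA w * M)⁻¹ * (M * elA w) with hz
    have hzc : z ∈ Subgroup.center (GL ι K) := by
      rw [← E62Fi22.pr_eq_one, hz, map_mul, map_inv, hcomm', inv_mul_cancel]
    have hzc' := Subgroup.mem_center_iff.1 hzc
    obtain ⟨d, hd⟩ : ∃ d : K, (z : Matrix ι ι K) = d • 1 :=
      E62Fi22.scalar_of_commute hw fun k _ _ => by rw [← Units.val_mul, ← hzc', Units.val_mul]
    have hd0 : d ≠ 0 := fun h0 => by
      rw [h0, zero_smul] at hd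
      exact one_ne_zero (α := Matrix ι ι K) (by rw [← z.mul_inv, hd, zero_mul])
    have hA5 : (elA w : GL ι K) ^ 5 = 1 := by
      have := rel_eq (K := K) hw (show (List.replicate 5 0, []) ∈ relList by decide)
      simpa [pow_succ, mul_assoc, elW, elA] using this
    have hMA : M * elA w * M⁻¹ = elA w * z := by
      have hzz : M * elA w = elA w * M * z := by rw [hz, mul_inv_cancel_left]
      rw [hzz, mul_assoc (elA w) M z, hzc' M, ← mul_assoc (elA w), mul_inv_cancel_right]
    have hz5 : z ^ 5 = 1 := by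
      have e : (M * elA w * M⁻¹) ^ 5 = 1 := by rw [conj_pow, hA5]; group
      rw [hMA, (Commute.mul_pow (hzc' _) 5 : (elA w * z) ^ 5 = elA w ^ 5 * z ^ 5), hA5, one_mul] at e
      exact e
    have hd5 : d ^ 5 = 1 := by
      have e := congrArg (fun g : GL ι K => (g : Matrix ι ι K) (cd 0) (cd 0)) hz5
      simpa [Units.val_pow_eq_pow_val, hd, smul_pow] using e
    have hd1 : d = 1 := by
      have h3 := cube_one hK hd0
      calc d = d ^ 3 * d ^ 3 * d := by rw [h3]; ring
        _ = d ^ 5 * d ^ 2 := by ring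
        _ = d ^ 2 := by rw [hd5, one_mul]
        _ = d ^ 5 := by rw [show d ^ 5 = d ^ 3 * d ^ 2 by ring, h3, one_mul]
        _ = 1 := hd5
    have hz1 : z = 1 := Units.ext (by rw [hd, hd1, one_smul, Units.val_one])
    have hMc : Commute M (elA w) := by
      show M * elA w = elA w * M
      rw [← mul_one (elA w * M), ← hz1, hz, mul_inv_cancel_left]
    have hCen : Cen w M := ⟨hM, hMc⟩
    obtain ⟨hline, ha⟩ := hCen.fix_line hK hw
    generalize cn (ap M (ev K 17)) 17 = a at hline ha
    have hinv : a⁻¹ ^ 3 = 1 := cube_one hK (inv_ne_zero ha)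
    let s : GL ι K :=
      ⟨a⁻¹ • 1, a • 1, by rw [smul_mul_smul_comm, one_mul, inv_mul_cancel₀ ha, one_smul],
        by rw [smul_mul_smul_comm, one_mul, mul_inv_cancel₀ ha, one_smul]⟩
    have hs : s ∈ Subgroup.center (GL ι K) := E62Fi22.central_of_scalar (d := a⁻¹) rfl
    refine ⟨s * M, ⟨⟨(scalar_keep hinv rfl).mul hM,
      Commute.mul_left (Subgroup.mem_center_iff.1 hs _).symm hMc⟩, ?_, fun i hi => absurd hi (Nat.not_lt_zero _)⟩, ?_⟩
    · rw [ap_mul, hline]
      show (a⁻¹ • (1 : Matrix ι ι K)) *ᵥ (a • ev K 17) = _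
      rw [Matrix.smul_mulVec, Matrix.one_mulVec, smul_smul, inv_mul_cancel₀ ha, one_smul]
    · rw [map_mul, E62Fi22.pr_eq_one.2 hs, one_mul]
      exact hcM
  choose f hf hfv using key
  refine Nat.card_le_card_of_injective (fun c => (⟨f c, hf c⟩ : stab w 0)) fun c c' e => ?_
  apply Subtype.ext
  apply chiT_inj R
  rw [hfv c, hfv c']
  exact congrArg E62Fi22.pr (congrArg Subtype.val e)

theorem main (hK : Fintype.card K = 4) (hw : w * w = w + 1) :
    (∀ x y : ↥(twistedE6 K 2), orderOf x = 5 → orderOf y = 5 → IsConj x y) ∧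
      ∀ x : ↥(twistedE6 K 2), orderOf x = 5 → Nonempty (↥(Subgroup.centralizer ({x} : Set ↥(twistedE6 K 2))) ≃*
        (Multiplicative (ZMod 5) × ↥(alternatingGroup (Fin 8)))) := by
  classical
  haveI : Fact (Nat.Prime 5) := ⟨by norm_num⟩
  haveI : Fact (Nat.Prime 2) := ⟨Nat.prime_two⟩
  obtain ⟨R⟩ := E62Fi22.exists_rep hw
  obtain ⟨P⟩ := exists_pts hw R
  have ordA := orderFive_a hw R P
  set a := P.x 0 with hadef
  set b := P.x 1 with hbdef
  have rel2 : ∀ u v : List ℕ, (u, v) ∈ relList → (u.map P.x).prod = (v.map P.x).prod :=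
    fun u v h => P.rel (u, v) h
  have ha5 : a ^ 5 = 1 := by rw [← ordA]; exact pow_orderOf_eq_one a
  have hb5 : b ^ 5 = 1 := by simpa [pow_succ, mul_assoc] using rel2 (List.replicate 5 1) [] (by decide)
  have hab : Commute a b := by
    show a * b = b * a
    simpa using rel2 [0, 1] [1, 0] (by decide)
  -- conjugacy inside the group of order twenty-five
  have hconj : ∀ i < 5, ∀ j < 5, (i, j) ≠ (0, 0) → IsConj a (fivePair a b (i, j)) := by
    intro i hi j hj hne
    refine conj_reached ha5 hb5 hab (fun k => P.x (k + 8)) (isConj_iff.2 ⟨P.x 11, ?_⟩) ?_ 8 _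
      (reached_all i hi j hj hne)
    · rw [mul_inv_eq_iff_eq_mul]
      simpa [mul_assoc] using rel2 [11, 0] [0, 1, 11] (by decide)
    · have hpair : ∀ e : ℕ × ℕ, ((pairW e).map P.x).prod = fivePair a b e := fun e => by
        simp [pairW, fivePair, hadef, hbdef]
      intro k hk
      refine ⟨?_, ?_⟩ <;> rw [mul_inv_eq_iff_eq_mul, ← hpair]
      · have := rel2 [k + 8, 0] (pairW (images.getD k ((0, 0), (0, 0))).1 ++ [k + 8])
          (by interval_cases k <;> decide)
        simpa using this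
      · have := rel2 [k + 8, 1] (pairW (images.getD k ((0, 0), (0, 0))).2 ++ [k + 8])
          (by interval_cases k <;> decide)
        simpa using this
  have hone : ∀ i < 5, ∀ j < 5, fivePair a b (i, j) = 1 → i = 0 ∧ j = 0 := by
    intro i hi j hj he
    by_contra hne
    have h := hconj i hi j hj (fun e => hne ⟨congrArg Prod.fst e, congrArg Prod.snd e⟩)
    rw [he, isConj_one_left] at h
    rw [h, orderOf_one] at ordA
    norm_num at ordA
  -- the Sylow subgroup
  let Psub : Subgroup ↥(twistedE6 K 2) :=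
    { carrier := {y | ∃ i < 5, ∃ j < 5, y = fivePair a b (i, j)}
      one_mem' := ⟨0, by norm_num, 0, by norm_num, by simp [fivePair]⟩
      mul_mem' := by
        rintro _ _ ⟨i, hi, j, hj, rfl⟩ ⟨k, hk, l, hl, rfl⟩
        exact ⟨(i + k) % 5, Nat.mod_lt _ (by norm_num), (j + l) % 5, Nat.mod_lt _ (by norm_num),
          (five_mul hab _ _).trans (five_mod ha5 hb5 _ _)⟩
      inv_mem' := by
        rintro _ ⟨i, hi, j, hj, rfl⟩
        refine ⟨(4 * i) % 5, Nat.mod_lt _ (by norm_num), (4 * j) % 5, Nat.mod_lt _ (by norm_num), ?_⟩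
        refine inv_eq_of_mul_eq_one_right ?_
        rw [← five_mod ha5 hb5, five_mul hab, five_mod ha5 hb5, show (i + 4 * i) % 5 = 0 by omega,
          show (j + 4 * j) % 5 = 0 by omega]
        simp [fivePair] }
  have hPcard : Nat.card Psub = 5 ^ 2 := by
    let f : Fin 5 × Fin 5 → Psub := fun e =>
      ⟨fivePair a b (e.1.val, e.2.val), e.1.val, e.1.isLt, e.2.val, e.2.isLt, rfl⟩
    have hf : Function.Bijective f := by
      refine ⟨fun e e' h => ?_, ?_⟩
      · have h' : fivePair a b (e.1.val, e.2.val) = fivePair a b (e'.1.val, e'.2.val) := congrArg Subtype.val h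
        have hz : fivePair a b ((e.1.val + 4 * e'.1.val) % 5, (e.2.val + 4 * e'.2.val) % 5) = 1 := by
          rw [← five_mod ha5 hb5, ← five_mul hab (e.1.val, e.2.val) (4 * e'.1.val, 4 * e'.2.val), h',
            five_mul hab, five_mod ha5 hb5, show (e'.1.val + 4 * e'.1.val) % 5 = 0 by omega,
            show (e'.2.val + 4 * e'.2.val) % 5 = 0 by omega]
          simp [fivePair]
        obtain ⟨h1, h2⟩ := hone _ (Nat.mod_lt _ (by norm_num)) _ (Nat.mod_lt _ (by norm_num)) hz
        have := e.1.isLt; have := e'.1.isLt; have := e.2.isLt; have := e'.2.isLt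
        exact Prod.ext (Fin.ext (by omega)) (Fin.ext (by omega))
      · rintro ⟨y, i, hi, j, hj, rfl⟩
        exact ⟨(⟨i, hi⟩, ⟨j, hj⟩), rfl⟩
    rw [← Nat.card_congr (Equiv.ofBijective f hf), Nat.card_prod, Nat.card_fin]
    norm_num
  have hG : 3 * Nat.card ↥(twistedE6 K 2) =
      2 ^ 36 * (2 ^ 2 - 1) * (2 ^ 5 + 1) * (2 ^ 6 - 1) * (2 ^ 8 - 1) * (2 ^ 9 + 1) * (2 ^ 12 - 1) := by
    have hσ : ∀ x : K, frobenius K 2 x = x ^ 2 := fun x => frobenius_def 2 x
    have hK2 : Fintype.card K = 2 ^ 2 := by rw [hK]; norm_num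
    have h := (E62.orders hσ hK2).2
    rw [show Nat.gcd 3 (2 + 1) = 3 from rfl] at h
    rw [E62.twisted_eq_fix hσ hK2]
    exact h
  have hfact : (Nat.card ↥(twistedE6 K 2)).factorization 5 = 2 := by
    have hval : Nat.card ↥(twistedE6 K 2) = 5 ^ 2 * (2 ^ 36 * 33 * 63 * 51 * 513 * 819) := by
      norm_num at hG ⊢
      omega
    rw [hval]
    have hp : Nat.Prime 5 := by norm_num
    have hz : (2 ^ 36 * 33 * 63 * 51 * 513 * 819 : ℕ).factorization 5 = 0 :=
      Nat.factorization_eq_zero_of_not_dvd (by norm_num)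
    rw [Nat.factorization_mul (by norm_num) (by norm_num), Finsupp.add_apply, hz, add_zero,
      hp.factorization_pow, Finsupp.single_eq_same]
  let S : Sylow 5 ↥(twistedE6 K 2) := Sylow.ofCard Psub (by rw [hPcard, hfact])
  haveI : Finite ↥(twistedE6 K 2) := by infer_instance
  have hallA : ∀ x : ↥(twistedE6 K 2), orderOf x = 5 → IsConj a x := by
    intro x hx
    have hxp : IsPGroup 5 (Subgroup.zpowers x) := IsPGroup.of_card (n := 1) (by rw [Nat.card_zpowers, hx, pow_one])
    obtain ⟨Q, hQ⟩ := hxp.exists_le_sylow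
    obtain ⟨h, hh⟩ := MulAction.exists_smul_eq (↥(twistedE6 K 2)) Q S
    have hmem : h * x * h⁻¹ ∈ Psub := by
      have h1 : h * x * h⁻¹ ∈ (h • Q : Sylow 5 ↥(twistedE6 K 2)) := by
        show h * x * h⁻¹ ∈ ((h • Q : Sylow 5 ↥(twistedE6 K 2)) : Subgroup ↥(twistedE6 K 2))
        rw [Sylow.coe_subgroup_smul, Subgroup.mem_smul_pointwise_iff_exists]
        exact ⟨x, hQ (Subgroup.mem_zpowers x), rfl⟩
      rw [hh] at h1
      exact h1
    obtain ⟨i, hi, j, hj, he⟩ := hmem
    have hx1 : IsConj (fivePair a b (i, j)) x := (isConj_iff.2 ⟨h, he⟩ : IsConj x _).symm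
    refine (hconj i hi j hj fun e => ?_).trans hx1
    rw [Prod.mk.injEq] at e
    rw [e.1, e.2, show fivePair a b (0, 0) = 1 by simp [fivePair], isConj_one_right] at hx1
    rw [hx1, orderOf_one] at hx
    norm_num at hx
  refine ⟨fun x y hx hy => (hallA x hx).symm.trans (hallA y hy), ?_⟩
  -- the centralizer of `a`
  let y : ℕ → ↥(twistedE6 K 2) := fun i => P.x (i + 2)
  have hy3 : y 0 ^ 3 = 1 := by simpa [y, pow_succ, mul_assoc] using rel2 [2, 2, 2] [] (by decide)
  have hy2 : ∀ i, i + 1 < 6 → y (i + 1) ^ 2 = 1 := fun i hi => by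
    have := rel2 [i + 3, i + 3] [] (by have : i < 5 := (by omega); interval_cases i <;> decide)
    simpa [y, pow_two] using this
  have hyb : ∀ i, i + 1 < 6 → (y i * y (i + 1)) ^ 3 = 1 := fun i hi => by
    have := rel2 [i + 2, i + 3, i + 2, i + 3, i + 2, i + 3] [] (by have : i < 5 := (by omega); interval_cases i <;> decide)
    simpa [y, pow_succ, mul_assoc] using this
  have hyf : ∀ i j, i + 1 < j → j < 6 → (y i * y j) ^ 2 = 1 := fun i j hij hj => by
    have hi : i < 4 := by omega
    have := rel2 [i + 2, j + 2, i + 2, j + 2] [] (by interval_cases j <;> interval_cases i <;> first | omega | decide)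
    simpa [y, pow_two, mul_assoc] using this
  obtain ⟨φ, hφ0, hφt⟩ := exists_hom_seq (m := 6) (by norm_num) y hy3 hy2 hyb hyf
  have hy1 : y 0 ≠ 1 := by
    intro h
    have h1 := P.val 2 (by norm_num)
    change P.x 2 = 1 at h
    rw [h, map_one] at h1
    have hc := Subgroup.mem_center_iff.1 (E62Fi22.pr_eq_one.1 h1.symm)
    obtain ⟨d, hd⟩ : ∃ d : K, (elW w 2 : Matrix ι ι K) = d • 1 :=
      E62Fi22.scalar_of_commute hw fun k _ _ => by rw [← Units.val_mul, ← hc, Units.val_mul]
    have e := congrFun (congrFun hd (cd 3)) (cd 0)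
    rw [elW_val hw (by norm_num), Matrix.smul_apply, Matrix.one_apply_ne (by decide), smul_zero] at e
    change E62Fi22.dec w ((mats.getD 2 (scRows id)).getD (E62Fi22.pos (cd 0)) (0, 0)) (E62Fi22.pos (cd 3)) = 0 at e
    have hb : ((mats.getD 2 (scRows id)).getD 0 (0, 0)).1.testBit 3 = true ∧
        ((mats.getD 2 (scRows id)).getD 0 (0, 0)).2.testBit 3 = false := by decide +kernel
    rw [E62Fi22.pos_cd (by norm_num), E62Fi22.pos_cd (by norm_num), E62Fi22.dec, hb.1, hb.2] at e
    simp [E62Fi22.bitv] at e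
  haveI hsimp : IsSimpleGroup (alternatingGroup (Fin 8)) := alternatingGroup.isSimpleGroup (by simp)
  have hφinj : Function.Injective φ := by
    rcases hsimp.eq_bot_or_eq_top_of_normal φ.ker inferInstance with hk | hk
    · exact (MonoidHom.ker_eq_bot_iff φ).1 hk
    · exfalso
      refine hy1 ?_
      rw [← hφ0]
      exact MonoidHom.mem_ker.1 (hk ▸ Subgroup.mem_top _)
  have hcommφ : ∀ g, Commute a (φ g) := by
    have hgen : ∀ i < 6, Commute a (y i) := fun i hi => by
      have := rel2 [0, i + 2] [i + 2, 0] (by interval_cases i <;> decide)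
      show a * y i = y i * a
      simpa [y, hadef] using this
    intro g
    have hle : alternatingGroup (Fin (6 + 2)) ≤
        (((Subgroup.centralizer ({a} : Set ↥(twistedE6 K 2))).comap φ).map
          (alternatingGroup (Fin (6 + 2))).subtype) := by
      refine closure_seq (by norm_num) ⟨⟨zc 6 0, zc_mem (by norm_num)⟩, ?_, rfl⟩ fun j hj => ⟨⟨tc 6 j, tc_mem hj⟩, ?_, rfl⟩
      · show φ ⟨zc 6 0, zc_mem (by norm_num)⟩ ∈ Subgroup.centralizer {a}
        rw [hφ0, Subgroup.mem_centralizer_singleton_iff]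
        exact (hgen 0 (by norm_num)).eq.symm
      · show φ ⟨tc 6 j, tc_mem hj⟩ ∈ Subgroup.centralizer {a}
        rw [hφt j hj, Subgroup.mem_centralizer_singleton_iff]
        exact (hgen (j + 1) (by omega)).eq.symm
    obtain ⟨g', hg', e⟩ := hle g.2
    obtain rfl : g' = g := Subtype.ext e
    exact (Subgroup.mem_centralizer_singleton_iff.1 hg').symm
  let α : Multiplicative (ZMod 5) →* ↥(twistedE6 K 2) :=
    { toFun := fun i => a ^ i.toAdd.val
      map_one' := by simp
      map_mul' := fun i j => by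
        show a ^ (i.toAdd + j.toAdd).val = _
        rw [← pow_add, ZMod.val_add, five_mod.pow_mod_self ha5 (i.toAdd.val + j.toAdd.val)] }
  have hαφ : ∀ i g, Commute (α i) (φ g) := fun i g => (hcommφ g).pow_left _
  let Ψ := α.noncommCoprod φ hαφ
  have hΨmem : ∀ p, Ψ p ∈ Subgroup.centralizer ({a} : Set ↥(twistedE6 K 2)) := fun p => by
    rw [Subgroup.mem_centralizer_singleton_iff]
    show (a ^ _ * φ p.2) * a = a * (a ^ _ * φ p.2)
    rw [mul_assoc, ← (hcommφ p.2).eq, ← mul_assoc, ← mul_assoc, ← pow_succ, pow_succ']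
  have hΨinj : Function.Injective Ψ := by
    rw [injective_iff_map_eq_one]
    rintro ⟨i, g⟩ h
    change a ^ i.toAdd.val * φ g = 1 at h
    have hg : g ∈ Subgroup.center (alternatingGroup (Fin 8)) := by
      rw [Subgroup.mem_center_iff]
      intro k
      apply hφinj
      rw [map_mul, map_mul, eq_inv_of_mul_eq_one_right h]
      exact ((hcommφ k).pow_left _).inv_left.eq.symm
    rw [alternatingGroup.center_eq_bot (by simp), Subgroup.mem_bot] at hg
    subst hg
    rw [map_one, mul_one] at h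
    have hi := orderOf_dvd_of_pow_eq_one h
    rw [ordA] at hi
    have hlt := ZMod.val_lt i.toAdd
    have h0 : i.toAdd.val = 0 := Nat.eq_zero_of_dvd_of_lt hi hlt
    rw [ZMod.val_eq_zero] at h0
    exact Prod.ext (Multiplicative.toAdd.injective h0) rfl
  let Ψ' := Ψ.codRestrict _ hΨmem
  have hbij : Function.Bijective Ψ' := by
    have hinj : Function.Injective Ψ' := fun p q h => hΨinj (congrArg Subtype.val h)
    refine (Nat.bijective_iff_injective_and_card _).2 ⟨hinj, le_antisymm (Nat.card_le_card_of_injective _ hinj) ?_⟩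
    refine (card_centralizer_le hK hw R P).trans (le_of_eq ?_)
    rw [Nat.card_prod, Nat.card_congr (Multiplicative.toAdd (α := ZMod 5)), Nat.card_zmod,
      Nat.card_eq_fintype_card, card_alternatingGroup]
    rfl
  intro x hx
  obtain ⟨g, hg⟩ := isConj_iff.1 (hallA x hx)
  have hmap : (Subgroup.centralizer ({a} : Set ↥(twistedE6 K 2))).map (MulAut.conj g).toMonoidHom =
      Subgroup.centralizer {x} := by
    ext y
    rw [Subgroup.mem_map_equiv, Subgroup.mem_centralizer_singleton_iff, Subgroup.mem_centralizer_singleton_iff,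
      ← (MulAut.conj g).apply_eq_iff_eq, map_mul, map_mul, MulEquiv.apply_symm_apply, MulAut.conj_apply, hg]
  exact ⟨(((MulAut.conj g).subgroupMap _).trans (MulEquiv.subgroupCongr hmap)).symm.trans
    (MulEquiv.ofBijective Ψ' hbij).symm⟩

omit [CharP K 2] in
/-- a field of four elements has a root of `w² + w + 1` -/
theorem exists_root (hK : Fintype.card K = 4) : ∃ w : K, w * w = w + 1 ∧ w ≠ 0 := by
  classical
  haveI : Fact (Nat.Prime 2) := ⟨Nat.prime_two⟩
  haveI : CharP K 2 := charP_of_card_eq_prime_pow (p := 2) (f := 2) hK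
  obtain ⟨t, ht⟩ : ∃ t, t ∉ ({0, 1} : Finset K) := by
    by_contra h
    push Not at h
    have := Finset.card_le_card (fun t (_ : t ∈ Finset.univ) => h t)
    rw [Finset.card_univ, hK] at this
    have h2 : ({0, 1} : Finset K).card ≤ 2 := Finset.card_le_two
    omega
  simp only [Finset.mem_insert, Finset.mem_singleton, not_or] at ht
  have h3 := cube_one hK ht.1
  have e : (t - 1) * (t * t - t - 1) = 0 := by
    linear_combination h3 - (t ^ 2 - 1) * CharTwo.two_eq_zero (R := K)
  rcases mul_eq_zero.1 e with h | h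
  · exact absurd (sub_eq_zero.1 h) ht.2
  · exact ⟨t, by linear_combination h, ht.1⟩

end CfsgLib.Chev.E62Five
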