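import Cfsg.Agent.Lib.Chev.E62Five.Forms

/-!
Maps keeping the cubic form and the hermitian pairing and commuting with the element of order five act on
its seven fixed coordinates by a scalar times an isometry of the six-dimensional quadratic space over two
elements.
-/

set_option autoImplicit false
set_option maxRecDepth 100000
set_option linter.unusedSectionVars false

namespace CfsgLib.Chev.E62Five

open Matrix CfsgLib.Chev CfsgLib.Chev.E6Form
open CfsgLib.Chev.E62Fi22 (matOf matOf_map_app vecOf)
open CfsgLib.KnownB.Fi22Mult.Rep (Vc app eqL eqL_sound)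

variable {K : Type*} [Field K] [CharP K 2] {w : K}

/-- the element of order five -/
noncomputable def elA (w : K) : GL ι K := E62Fi22.elemL w ((words.getD 0 []).flatMap E62Fi22.expand)

theorem words_get {i : ℕ} (hi : i < 45) : wordOK (words.getD i []) = true := by
  have hlen : words.length = 45 := by decide +kernel
  rw [List.getD_eq_getElem?_getD, List.getElem?_eq_getElem (by omega), Option.getD_some]
  exact List.all_eq_true.1 wordsOK_true _ (List.getElem_mem _)

theorem elA_val (hw : w * w = w + 1) : ((elA w : GL ι K) : Matrix ι ι K) = matOf w colsA := by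
  have h := words_get (show 0 < 45 by norm_num)
  simp only [wordOK, Bool.and_eq_true, List.all_eq_true, decide_eq_true_eq] at h
  rw [elA, E62Fi22.elemL_val hw _ h.2]
  have e : eqL (E62Fi22.colsL ((words.getD 0 []).flatMap E62Fi22.expand)) colsA = true := by decide +kernel
  rw [eqL_sound e]

theorem mat_proj (hw : w * w = w + 1) (L : List ℕ) (v : ι → K) (i : ι) :
    (matOf w (projC L) *ᵥ v) i = if E62Fi22.pos i ∈ L then v i else 0 := by
  have e : ∀ k, matOf w (projC L) i k = if i = k ∧ E62Fi22.pos i ∈ L then 1 else 0 := by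
    intro k
    show E62Fi22.dec w ((projC L).getD (E62Fi22.pos k) (0, 0)) (E62Fi22.pos i) = _
    rw [projC, List.getD_eq_getElem?_getD, List.getElem?_map, List.getElem?_range (E62Fi22.pos_lt k)]
    simp only [Option.map_some, Option.getD_some]
    by_cases hk : E62Fi22.pos k ∈ L
    · rw [show L.contains (E62Fi22.pos k) = true by simpa using hk]
      simp only [cond_true, E62Fi22.dec, E62Fi22.bitv, Nat.zero_testBit, cond_false, zero_mul, add_zero,
        Nat.one_shiftLeft, Nat.testBit_two_pow]
      by_cases h : i = k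
      · subst h; simp [hk]
      · rw [decide_eq_false fun e => h (E62Fi22.pos_inj e).symm]; simp [h]
    · rw [show L.contains (E62Fi22.pos k) = false by simpa using hk]
      simp only [cond_false, E62Fi22.dec_zero]
      by_cases h : i = k
      · subst h; simp [hk]
      · simp [h]
  simp only [Matrix.mulVec, dotProduct, e, ite_mul, one_mul, zero_mul]
  rw [Finset.sum_eq_single i]
  · simp
  · intro k _ hk; simp [Ne.symm hk]
  · exact fun h => absurd (Finset.mem_univ _) h

/-- supported on the seven coordinates -/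
def Seven (v : ι → K) : Prop := ∀ k ∈ offW, cn v k = 0

/-- zero on the seven coordinates -/
def Off (v : ι → K) : Prop := cn v 2 = 0 ∧ cn v 5 = 0 ∧ cn v 8 = 0 ∧ cn v 17 = 0 ∧ cn v 24 = 0 ∧
  cn v 25 = 0 ∧ cn v 26 = 0

theorem offW_lt : ∀ k ∈ offW, k < 27 := by decide

theorem proj_off (hw : w * w = w + 1) (v : ι → K) {k : ℕ} (hk : k < 27) :
    cn (matOf w (projC offW) *ᵥ v) k = if k ∈ offW then cn v k else 0 := by
  rw [cn, mat_proj hw, E62Fi22.pos_cd hk]

/-- the matrix identities of `A + 1` -/
theorem A1_identities (hw : w * w = w + 1) :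
    matOf w invA * matOf w colsA1 = matOf w (projC offW) ∧
    matOf w colsA1 * matOf w invA = matOf w (projC offW) ∧
    matOf w (projC offW) * matOf w colsA1 = matOf w colsA1 ∧
    matOf w colsA1 * matOf w (projC offW) = matOf w colsA1 ∧
    matOf w colsA1 = (elA w : Matrix ι ι K) + 1 := by
  have hA := colsA_ends.2.2.1
  have hI := colsA_ends.2.2.2.1
  have hA1 : colsA1.length = 27 := by decide +kernel
  have hP : (projC offW).length = 27 := by decide +kernel
  refine ⟨?_, ?_, ?_, ?_, ?_⟩
  · rw [← matOf_map_app hw hA1 hI, eqL_sound invA_left]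
  · rw [← matOf_map_app hw hI hA1, eqL_sound invA_right]
  · rw [← matOf_map_app hw hA1 hP, eqL_sound colsA1_left]
  · rw [← matOf_map_app hw hP hA1, eqL_sound colsA1_right]
  · rw [colsA1, E62Fi22.matOf_zipWith hA (E62Fi22.len_scRows id), E62Fi22.matOf_id, elA_val hw]

theorem seven_iff (hw : w * w = w + 1) (v : ι → K) : Seven v ↔ matOf w colsA1 *ᵥ v = 0 := by
  obtain ⟨hl, -, -, hr, -⟩ := A1_identities hw
  constructor
  · intro h
    have h0 : matOf w (projC offW) *ᵥ v = 0 := by
      funext i
      rw [mat_proj hw, Pi.zero_apply, ite_eq_right_iff]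
      intro hi
      rw [← E62Fi22.cd_pos i]
      exact h _ hi
    rw [← hr, ← Matrix.mulVec_mulVec, h0, Matrix.mulVec_zero]
  · intro h k hk
    have := congrArg (fun M => cn (M *ᵥ v) k) hl
    simp only [← Matrix.mulVec_mulVec, h, Matrix.mulVec_zero, proj_off hw v (offW_lt k hk), if_pos hk] at this
    exact this.symm

/-- commutes with the element of order five, keeps the form and the pairing -/
structure Cen (w : K) (g : GL ι K) : Prop where
  keep : Keep g
  comm : Commute g (elA w)

theorem Cen.A1 (hw : w * w = w + 1) {g : GL ι K} (hg : Cen w g) (v : ι → K) :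
    matOf w colsA1 *ᵥ ap g v = ap g (matOf w colsA1 *ᵥ v) := by
  rw [(A1_identities hw).2.2.2.2, Matrix.add_mulVec, Matrix.add_mulVec, Matrix.one_mulVec, Matrix.one_mulVec]
  show ap (elA w) (ap g v) + ap g v = ap g (ap (elA w) v + v)
  rw [← ap_mul, ← hg.comm.eq, ap_mul]
  exact (Matrix.mulVec_add _ _ _).symm

theorem Cen.seven (hw : w * w = w + 1) {g : GL ι K} (hg : Cen w g) {v : ι → K} (hv : Seven v) :
    Seven (ap g v) := by
  rw [seven_iff hw, hg.A1 hw, (seven_iff hw v).1 hv]
  exact Matrix.mulVec_zero _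

theorem Cen.off (hw : w * w = w + 1) {g : GL ι K} (hg : Cen w g) {v : ι → K} (hv : Off v) :
    Off (ap g v) := by
  obtain ⟨-, hr, hl, -, -⟩ := A1_identities hw
  have hvP : matOf w (projC offW) *ᵥ v = v := by
    funext i
    rw [mat_proj hw]
    split_ifs with hi
    · rfl
    · have hlt := E62Fi22.pos_lt i
      obtain ⟨h2, h5, h8, h17, h24, h25, h26⟩ := hv
      rw [← E62Fi22.cd_pos i]
      generalize E62Fi22.pos i = k at hi hlt
      simp only [offW, List.mem_cons, List.not_mem_nil, or_false, not_or] at hi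
      interval_cases k <;> simp_all [cn]
  have e : ap g v = matOf w (projC offW) *ᵥ ap g v := by
    have ev : v = matOf w colsA1 *ᵥ (matOf w invA *ᵥ v) := by rw [Matrix.mulVec_mulVec, hr, hvP]
    conv_lhs => rw [ev, ← hg.A1 hw]
    conv_rhs => rw [ev, ← hg.A1 hw, Matrix.mulVec_mulVec, hl]
  rw [e]
  refine ⟨?_, ?_, ?_, ?_, ?_, ?_, ?_⟩ <;> (rw [proj_off hw _ (by norm_num), if_neg (by decide)])

variable [Fintype K]

theorem three_le (hK : Fintype.card K = 4) : 3 ≤ Fintype.card K := by omega

theorem qb_move (hK : Fintype.card K = 4) {g : GL ι K} (hg : Keep g) {u : ι → K} (hu : ap g u = u)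
    (x y : ι → K) : QB u (ap g x) y = QB u x (ap g⁻¹ y) := by
  conv_lhs => rw [← hu, ← ap_ap_inv g y]
  rw [QB_inv (three_le hK) hg.1]

/-- the seven coordinates -/
theorem seven_ev {k : ℕ} (hk : k < 27) (h : k ∉ offW) : Seven (ev K k) := fun j hj => by
  rw [cn_ev hk (offW_lt j hj), if_neg fun e : k = j => h (e.symm ▸ hj)]

/-- the line of the seventeenth coordinate is kept -/
theorem Cen.fix_line (hK : Fintype.card K = 4) (hw : w * w = w + 1) {g : GL ι K} (hg : Cen w g) :
    ap g (ev K 17) = cn (ap g (ev K 17)) 17 • ev K 17 ∧ cn (ap g (ev K 17)) 17 ≠ 0 := by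
  set v := ap g (ev K 17) with hv
  have h7 : ∀ k < 27, k ∉ offW → Seven (ap g (ev K k)) := fun k hk h => hg.seven hw (seven_ev hk h)
  have hv7 : Seven v := h7 17 (by norm_num) (by decide)
  have hq : ∀ a b : ℕ, a < 27 → b < 27 → a ∉ offW → b ∉ offW → a ≠ 17 → b ≠ 17 →
      QB v (ap g (ev K a)) (ap g (ev K b)) = QB (ev K 17) (ev K a) (ev K b) := fun a b _ _ _ _ _ _ =>
    QB_inv (three_le hK) hg.keep.1 _ _ _
  have hne : cn v 17 ≠ 0 := by
    intro h0
    have e1 := hq 2 24 (by norm_num) (by norm_num) (by decide) (by decide) (by norm_num) (by norm_num)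
    have e2 := hq 5 25 (by norm_num) (by norm_num) (by decide) (by decide) (by norm_num) (by norm_num)
    have e3 := hq 5 2 (by norm_num) (by norm_num) (by decide) (by decide) (by norm_num) (by norm_num)
    have e4 := hq 5 24 (by norm_num) (by norm_num) (by decide) (by decide) (by norm_num) (by norm_num)
    rw [qb_seven v _ _ hv7 (h7 _ (by norm_num) (by decide)) (h7 _ (by norm_num) (by decide)), h0,
      zero_mul, zero_add, qb17] at e1 e2 e3 e4
    simp (disch := decide) only [cn_ev, Nat.reduceEqDiff, if_true, if_false, mul_zero, zero_mul, add_zero,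
      zero_add, one_mul, mul_one] at e1 e2 e3 e4
    generalize cn (ap g (ev K 2)) 17 = l2 at e1 e3
    generalize cn (ap g (ev K 24)) 17 = l24 at e1 e4
    generalize cn (ap g (ev K 5)) 17 = l5 at e2 e3 e4
    generalize cn (ap g (ev K 25)) 17 = l25 at e2
    generalize cn v 2 * cn (ap g (ev K 2)) 24 + cn v 24 * cn (ap g (ev K 2)) 2 +
      cn v 5 * cn (ap g (ev K 2)) 25 + cn v 25 * cn (ap g (ev K 2)) 5 +
      cn v 8 * cn (ap g (ev K 2)) 26 + cn v 26 * cn (ap g (ev K 2)) 8 = m2 at e1 e3
    generalize cn v 2 * cn (ap g (ev K 24)) 24 + cn v 24 * cn (ap g (ev K 24)) 2 +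
      cn v 5 * cn (ap g (ev K 24)) 25 + cn v 25 * cn (ap g (ev K 24)) 5 +
      cn v 8 * cn (ap g (ev K 24)) 26 + cn v 26 * cn (ap g (ev K 24)) 8 = m24 at e1 e4
    generalize cn v 2 * cn (ap g (ev K 5)) 24 + cn v 24 * cn (ap g (ev K 5)) 2 +
      cn v 5 * cn (ap g (ev K 5)) 25 + cn v 25 * cn (ap g (ev K 5)) 5 +
      cn v 8 * cn (ap g (ev K 5)) 26 + cn v 26 * cn (ap g (ev K 5)) 8 = m5 at e2 e3 e4
    have d5 : l5 = 0 := by
      linear_combination (-l5) * e1 + (-l2) * e4 + l24 * e3 +
        (l2 * l5 * m24) * CharTwo.two_eq_zero (R := K)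
    have d5' : m5 = 0 := by
      linear_combination (-m5) * e1 + (-m2) * e4 + m24 * e3 +
        (l24 * m2 * m5) * CharTwo.two_eq_zero (R := K)
    rw [d5, d5'] at e2
    simp at e2
  refine ⟨?_, hne⟩
  have hA : ∀ y, QA v y = 0 := fun y => by
    rw [← ap_ap_inv g y, hv, QA_inv (three_le hK) hg.keep.1, qa_self17]
  have hz : ∀ k ∈ offW, cn v k = 0 := hv7
  simp only [offW, List.forall_mem_cons, List.forall_mem_nil, and_true] at hz
  have z2 := hA (ev K 2); have z5 := hA (ev K 5); have z8 := hA (ev K 8); have z24 := hA (ev K 24)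
  have z25 := hA (ev K 25); have z26 := hA (ev K 26)
  rw [qa2] at z2; rw [qa5] at z5; rw [qa8] at z8; rw [qa24] at z24; rw [qa25] at z25; rw [qa26] at z26
  simp only [hz, zero_mul, mul_zero, zero_add, mul_eq_zero, hne, false_or, or_false] at z2 z5 z8 z24 z25 z26
  funext i
  obtain ⟨k, hk, rfl⟩ : ∃ k < 27, cd k = i := ⟨_, E62Fi22.pos_lt i, E62Fi22.cd_pos i⟩
  show cn v k = cn v 17 * cn (ev K 17) k
  rw [cn_ev (by norm_num) hk]
  interval_cases k <;> simp [hz, z2, z5, z8, z24, z25, z26]

end CfsgLib.Chev.E62Five
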